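import Cfsg.Agent.Lib.Helper5.AschO.Adjoint

set_option autoImplicit false

/-! Bases of `ι → F` indexed by another type: the Gram matrix in a basis, the matrix of an
adjoint, the explicit base-change matrix used by the frozen classes, and change of basis. -/

namespace Cfsg.Agent.Lib.Helper5.AschO

open Module Matrix
open Cfsg Cfsg.Geo Cfsg.Agent.Lib.Helper8.Asch

variable {ι : Type} [Fintype ι] [DecidableEq ι] {F : Type*} [Field F]
variable {κ : Type} [Fintype κ] [DecidableEq κ]

/-- the matrix whose columns are the basis vectors -/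
noncomputable def colM (b : Basis κ F (ι → F)) : Matrix ι κ F := (Pi.basisFun F ι).toMatrix b

/-- the inverse of `colM` -/
noncomputable def rowM (b : Basis κ F (ι → F)) : Matrix κ ι F := b.toMatrix (Pi.basisFun F ι)

theorem colM_mul_rowM (b : Basis κ F (ι → F)) : colM b * rowM b = 1 :=
  Basis.toMatrix_mul_toMatrix_flip _ _

theorem rowM_mul_colM (b : Basis κ F (ι → F)) : rowM b * colM b = 1 :=
  Basis.toMatrix_mul_toMatrix_flip _ _

theorem colM_apply (b : Basis κ F (ι → F)) (i : ι) (j : κ) : colM b i j = b j i := by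
  unfold colM
  rw [Basis.toMatrix_apply, Pi.basisFun_repr]

theorem colM_mulVec (b : Basis κ F (ι → F)) (x : κ → F) : colM b *ᵥ x = ∑ j, x j • b j := by
  funext i
  rw [Matrix.mulVec, dotProduct, Finset.sum_apply]
  apply Finset.sum_congr rfl
  intro j _
  rw [colM_apply, Pi.smul_apply, smul_eq_mul, mul_comm]

theorem toMatrix_toLin_eq (b : Basis κ F (ι → F)) (M : Matrix ι ι F) :
    LinearMap.toMatrix b b (Matrix.toLin' M) = rowM b * M * colM b :=
  toMatrix_toLin' b M

theorem toMatrix_eq (b : Basis κ F (ι → F)) (x : Module.End F (ι → F)) :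
    LinearMap.toMatrix b b x = rowM b * LinearMap.toMatrix' x * colM b := by
  have h := toMatrix_toLin_eq b (LinearMap.toMatrix' x)
  rwa [Matrix.toLin'_toMatrix'] at h

/-- the Gram matrix of `bf G` in the basis `b` -/
noncomputable def gramB (G : Matrix ι ι F) (b : Basis κ F (ι → F)) : Matrix κ κ F :=
  (colM b)ᵀ * G * colM b

theorem gramB_apply (G : Matrix ι ι F) (b : Basis κ F (ι → F)) (j j' : κ) :
    gramB G b j j' = bf G (b j) (b j') := by
  unfold gramB bf
  simp only [Matrix.mul_apply, dotProduct, Matrix.mulVec, Matrix.transpose_apply, colM_apply,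
    Finset.sum_mul, Finset.mul_sum]
  rw [Finset.sum_comm]
  refine Finset.sum_congr rfl fun i _ => Finset.sum_congr rfl fun i' _ => ?_
  ring

theorem gramB_symm {G : Matrix ι ι F} (hs : Gᵀ = G) (b : Basis κ F (ι → F)) :
    (gramB G b)ᵀ = gramB G b := by
  unfold gramB
  rw [Matrix.transpose_mul, Matrix.transpose_mul, Matrix.transpose_transpose, hs, Matrix.mul_assoc]

theorem gramB_invariant {G : Matrix ι ι F} (b : Basis κ F (ι → F)) {M : Matrix ι ι F}
    (hM : Mᵀ * G * M = G) :
    (LinearMap.toMatrix b b (Matrix.toLin' M))ᵀ * gramB G b *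
      LinearMap.toMatrix b b (Matrix.toLin' M) = gramB G b := by
  rw [toMatrix_toLin_eq]
  unfold gramB
  have h1 : (rowM b)ᵀ * (colM b)ᵀ = 1 := by
    rw [← Matrix.transpose_mul, colM_mul_rowM, Matrix.transpose_one]
  calc (rowM b * M * colM b)ᵀ * ((colM b)ᵀ * G * colM b) * (rowM b * M * colM b)
      = (colM b)ᵀ * Mᵀ * ((rowM b)ᵀ * (colM b)ᵀ) * G * (colM b * rowM b) * M * colM b := by
        rw [Matrix.transpose_mul, Matrix.transpose_mul]
        simp only [Matrix.mul_assoc]
    _ = (colM b)ᵀ * (Mᵀ * G * M) * colM b := by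
        rw [h1, colM_mul_rowM]
        simp only [Matrix.mul_assoc, Matrix.one_mul]
    _ = (colM b)ᵀ * G * colM b := by rw [hM]

/-- the matrix of the adjoint in a basis -/
theorem toMatrix_adj {G : Matrix ι ι F} (hG : G.det ≠ 0) (b : Basis κ F (ι → F))
    (x : Module.End F (ι → F)) :
    gramB G b * LinearMap.toMatrix b b (adj G x) =
      (LinearMap.toMatrix b b x)ᵀ * gramB G b := by
  rw [toMatrix_eq b x]
  unfold adj
  rw [toMatrix_toLin_eq]
  unfold gramB
  set M := LinearMap.toMatrix' x with hM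
  have h1 : (rowM b)ᵀ * (colM b)ᵀ = 1 := by
    rw [← Matrix.transpose_mul, colM_mul_rowM, Matrix.transpose_one]
  have h2 : G * G⁻¹ = 1 := Matrix.mul_nonsing_inv G (Ne.isUnit hG)
  calc (colM b)ᵀ * G * colM b * (rowM b * (G⁻¹ * Mᵀ * G) * colM b)
      = (colM b)ᵀ * G * (colM b * rowM b) * G⁻¹ * Mᵀ * G * colM b := by
        simp only [Matrix.mul_assoc]
    _ = (colM b)ᵀ * (G * G⁻¹) * Mᵀ * G * colM b := by
        rw [colM_mul_rowM]
        simp only [Matrix.mul_assoc, Matrix.one_mul]
    _ = (colM b)ᵀ * Mᵀ * G * colM b := by rw [h2, Matrix.mul_one]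
    _ = (colM b)ᵀ * Mᵀ * ((rowM b)ᵀ * (colM b)ᵀ) * G * colM b := by rw [h1, Matrix.mul_one]
    _ = (rowM b * M * colM b)ᵀ * ((colM b)ᵀ * G * colM b) := by
        rw [Matrix.transpose_mul, Matrix.transpose_mul]
        simp only [Matrix.mul_assoc]

/-- the explicit base-change matrix -/
noncomputable def basisGL (b : Basis κ F (ι → F)) (e : ι ≃ κ) : GL ι F :=
  ⟨(colM b).submatrix id e, (rowM b).submatrix e id,
    by rw [Matrix.submatrix_mul_equiv, colM_mul_rowM, Matrix.submatrix_id_id],
    by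
      have : (rowM b).submatrix e id * (colM b).submatrix id e = (rowM b * colM b).submatrix e e := by
        rw [Matrix.submatrix_mul (rowM b) (colM b) e id e Function.bijective_id]
      rw [this, rowM_mul_colM, Matrix.submatrix_one_equiv]⟩

theorem basisGL_val (b : Basis κ F (ι → F)) (e : ι ≃ κ) :
    (basisGL b e : Matrix ι ι F) = (colM b).submatrix id e := rfl

theorem basisGL_mulVec (b : Basis κ F (ι → F)) (e : ι ≃ κ) (x : κ → F) :
    (basisGL b e : Matrix ι ι F) *ᵥ (x ∘ e) = ∑ j, x j • b j := by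
  rw [basisGL_val, ← colM_mulVec]
  funext i
  rw [Matrix.mulVec, Matrix.mulVec, dotProduct, dotProduct]
  rw [← Equiv.sum_comp e]
  rfl

theorem bf_sum_basis (G : Matrix ι ι F) (b : Basis κ F (ι → F)) (x y : κ → F) :
    bf G (∑ j, x j • b j) (∑ j, y j • b j) = ∑ j, ∑ j', x j * gramB G b j j' * y j' := by
  rw [bf_sum_left]
  apply Finset.sum_congr rfl
  intro j _
  rw [bf_sum_right]
  apply Finset.sum_congr rfl
  intro j' _
  rw [bf_smul_left, bf_smul_right, gramB_apply]
  ring

theorem bf_basisGL (G : Matrix ι ι F) (b : Basis κ F (ι → F)) (e : ι ≃ κ) (x y : κ → F) :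
    bf G ((basisGL b e : Matrix ι ι F) *ᵥ (x ∘ e)) ((basisGL b e : Matrix ι ι F) *ᵥ (y ∘ e)) =
      ∑ j, ∑ j', x j * gramB G b j j' * y j' := by
  rw [basisGL_mulVec, basisGL_mulVec, bf_sum_basis]

theorem gramB_det {G : Matrix ι ι F} (hG : G.det ≠ 0) (b : Basis κ F (ι → F)) :
    (gramB G b).det ≠ 0 := by
  have hcard : Fintype.card ι = Fintype.card κ := by
    have h1 := Module.finrank_eq_card_basis b
    rw [Module.finrank_fintype_fun_eq_card] at h1
    exact h1
  let e : ι ≃ κ := Fintype.equivOfCardEq hcard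
  have h1 : (gramB G b).submatrix e e =
      ((basisGL b e : Matrix ι ι F))ᵀ * G * (basisGL b e : Matrix ι ι F) := by
    rw [basisGL_val]
    unfold gramB
    ext i i'
    simp only [Matrix.submatrix_apply, Matrix.mul_apply, Matrix.transpose_apply, id_eq]
  have h2 : ((gramB G b).submatrix e e).det = (gramB G b).det :=
    Matrix.det_submatrix_equiv_self e.symm.symm _ |>.trans (by rfl)
  rw [← h2, h1, Matrix.det_mul, Matrix.det_mul, Matrix.det_transpose]
  have h3 : (basisGL b e : Matrix ι ι F).det ≠ 0 := Matrix.GeneralLinearGroup.det_ne_zero _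
  exact mul_ne_zero (mul_ne_zero h3 hG) h3

/-- basis change, in the form used by the frozen classes (after helper8's `mem_conj_reindex`,
with the explicit base-change matrix) -/
theorem mem_conj_basisGL (S : Subgroup (GL κ F)) (b : Basis κ F (ι → F)) (e : ι ≃ κ)
    (h : GL ι F)
    (hs : ∃ s ∈ S, LinearMap.toMatrix b b (Matrix.toLin' (h : Matrix ι ι F)) = (s : Matrix κ κ F)) :
    h ∈ (S.map (glReindex e.symm).toMonoidHom).map (MulAut.conj (basisGL b e)).toMonoidHom := by
  set Q : Matrix κ ι F := rowM b with hQ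
  set Q' : Matrix ι κ F := colM b with hQ'
  have q1 : Q * Q' = 1 := rowM_mul_colM b
  have q2 : Q' * Q = 1 := colM_mul_rowM b
  obtain ⟨s, hs, hsM⟩ := hs
  rw [toMatrix_toLin_eq] at hsM
  rw [Subgroup.mem_map]
  refine ⟨glReindex e.symm s, Subgroup.mem_map_of_mem _ hs, ?_⟩
  apply Units.ext
  simp only [MulEquiv.toMonoidHom_eq_coe, MonoidHom.coe_coe, MulAut.conj_apply, Units.val_mul]
  show Q'.submatrix id e * (Matrix.reindexAlgEquiv F F e.symm (s : Matrix κ κ F)) *
    Q.submatrix e id = (h : Matrix ι ι F)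
  have hre : Matrix.reindexAlgEquiv F F e.symm (s : Matrix κ κ F) = (s : Matrix κ κ F).submatrix e e :=
    rfl
  rw [hre, ← hsM]
  have h1 : Q'.submatrix id e * (Q * (h : Matrix ι ι F) * Q').submatrix e e * Q.submatrix e id =
      (Q' * (Q * (h : Matrix ι ι F) * Q') * Q).submatrix id id := by
    rw [Matrix.submatrix_mul_equiv, Matrix.submatrix_mul_equiv]
  rw [h1, Matrix.submatrix_id_id]
  calc Q' * (Q * (h : Matrix ι ι F) * Q') * Q = (Q' * Q) * (h : Matrix ι ι F) * (Q' * Q) := by
        simp only [Matrix.mul_assoc]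
    _ = (h : Matrix ι ι F) := by rw [q2, one_mul, mul_one]

/-! ### change of basis -/

/-- the basis `b' j = ∑ l, M l j • b l` -/
noncomputable def chgBasis (b : Basis κ F (ι → F)) (M : GL κ F) : Basis κ F (ι → F) :=
  b.map (Matrix.toLinearEquiv b (M : Matrix κ κ F)
    ((Matrix.isUnit_iff_isUnit_det _).mp (Units.isUnit M)))

theorem chgBasis_apply (b : Basis κ F (ι → F)) (M : GL κ F) (j : κ) :
    chgBasis b M j = ∑ l, (M : Matrix κ κ F) l j • b l := by
  unfold chgBasis
  rw [Basis.map_apply, Matrix.toLinearEquiv_apply, Matrix.toLin_self]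

theorem colM_chgBasis (b : Basis κ F (ι → F)) (M : GL κ F) :
    colM (chgBasis b M) = colM b * (M : Matrix κ κ F) := by
  ext i j
  rw [colM_apply, chgBasis_apply, Matrix.mul_apply, Finset.sum_apply]
  apply Finset.sum_congr rfl
  intro l _
  rw [Pi.smul_apply, smul_eq_mul, colM_apply, mul_comm]

theorem rowM_chgBasis (b : Basis κ F (ι → F)) (M : GL κ F) :
    rowM (chgBasis b M) = ((M⁻¹ : GL κ F) : Matrix κ κ F) * rowM b := by
  have h1 := rowM_mul_colM (chgBasis b M)
  rw [colM_chgBasis] at h1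
  calc rowM (chgBasis b M)
      = rowM (chgBasis b M) * (colM b * (M : Matrix κ κ F) *
          (((M⁻¹ : GL κ F) : Matrix κ κ F) * rowM b)) := by
        have : colM b * (M : Matrix κ κ F) * (((M⁻¹ : GL κ F) : Matrix κ κ F) * rowM b) = 1 := by
          calc colM b * (M : Matrix κ κ F) * (((M⁻¹ : GL κ F) : Matrix κ κ F) * rowM b)
              = colM b * ((M : Matrix κ κ F) * ((M⁻¹ : GL κ F) : Matrix κ κ F)) * rowM b := by
                simp only [Matrix.mul_assoc]
            _ = 1 := by
                rw [← Units.val_mul, mul_inv_cancel, Units.val_one, Matrix.mul_one, colM_mul_rowM]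
        rw [this, Matrix.mul_one]
    _ = (rowM (chgBasis b M) * (colM b * (M : Matrix κ κ F))) *
          (((M⁻¹ : GL κ F) : Matrix κ κ F) * rowM b) := by
        simp only [Matrix.mul_assoc]
    _ = ((M⁻¹ : GL κ F) : Matrix κ κ F) * rowM b := by rw [h1, Matrix.one_mul]

theorem gramB_chgBasis (G : Matrix ι ι F) (b : Basis κ F (ι → F)) (M : GL κ F) :
    gramB G (chgBasis b M) = (M : Matrix κ κ F)ᵀ * gramB G b * (M : Matrix κ κ F) := by
  unfold gramB
  rw [colM_chgBasis, Matrix.transpose_mul]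
  simp only [Matrix.mul_assoc]

theorem toMatrix_chgBasis (b : Basis κ F (ι → F)) (M : GL κ F) (x : Module.End F (ι → F)) :
    LinearMap.toMatrix (chgBasis b M) (chgBasis b M) x =
      ((M⁻¹ : GL κ F) : Matrix κ κ F) * LinearMap.toMatrix b b x * (M : Matrix κ κ F) := by
  rw [toMatrix_eq, toMatrix_eq b, colM_chgBasis, rowM_chgBasis]
  simp only [Matrix.mul_assoc]

end Cfsg.Agent.Lib.Helper5.AschO
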