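import Cfsg.Agent.Lib.Helper5.AschO.Basic
import Cfsg.Agent.Lib.Helper5.OrthCard

set_option autoImplicit false

/-! Aschbacher's theorem for the odd-dimensional orthogonal groups: facts on `Ω`, the hypotheses
on `H` in matrix form, and the reducible case. -/

namespace Cfsg.Agent.Lib.Helper5.AschO

open Module Matrix QuadraticMap
open Cfsg Cfsg.Geo Cfsg.Agent.Lib.Helper8.Asch

variable {ι : Type} [Fintype ι] [DecidableEq ι] {F : Type*} [Field F]

theorem omegaGL_le_isom (Q : (ι → F) → F) : omegaGL Q ≤ isometryGroup F Q := by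
  intro g hg
  unfold omegaGL at hg
  obtain ⟨a, _, rfl⟩ := Subgroup.mem_map.mp hg
  exact a.2

theorem det_of_mem_omegaGL (Q : (ι → F) → F) {g : GL ι F} (hg : g ∈ omegaGL Q) :
    (g : Matrix ι ι F).det = 1 := by
  unfold omegaGL at hg
  obtain ⟨a, ha, rfl⟩ := Subgroup.mem_map.mp hg
  let φ : ↥(isometryGroup F Q) →* Fˣ :=
    (Matrix.GeneralLinearGroup.det).comp (isometryGroup F Q).subtype
  have h1 : a ∈ φ.ker := Abelianization.commutator_subset_ker φ ha
  have h2 : φ a = 1 := h1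
  have h3 : ((φ a : Fˣ) : F) = 1 := by rw [h2, Units.val_one]
  exact h3

/-- the hypotheses on `H` in matrix form: isometries of determinant one -/
structure OHyp (G : Matrix ι ι F) (H : Subgroup (GL ι F)) : Prop where
  isom : ∀ h ∈ H, (h : Matrix ι ι F)ᵀ * G * (h : Matrix ι ι F) = G
  det : ∀ h ∈ H, (h : Matrix ι ι F).det = 1

theorem OHyp.of_le_omegaGL (Q : QuadraticForm F (ι → F)) (h2 : (2 : F) ≠ 0)
    {H : Subgroup (GL ι F)} (hH : H ≤ omegaGL ⇑Q) : OHyp (gramQ Q) H where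
  isom := by
    intro h hh
    rw [← isom_iff_gram Q h2]
    exact (Cfsg.Agent.Lib.Helper5.OrthCard.mem_isometryGroup_iff _ h).mp (omegaGL_le_isom _ (hH hh))
  det := fun h hh => det_of_mem_omegaGL _ (hH hh)

theorem OHyp.mono {G : Matrix ι ι F} {H K : Subgroup (GL ι F)} (hH : OHyp G H) (hK : K ≤ H) :
    OHyp G K := ⟨fun h hh => hH.isom h (hK hh), fun h hh => hH.det h (hK hh)⟩

theorem OHyp.bf_eq {G : Matrix ι ι F} {H : Subgroup (GL ι F)} (hH : OHyp G H) {h : GL ι F}
    (hh : h ∈ H) (u v : ι → F) :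
    bf G ((h : Matrix ι ι F) *ᵥ u) ((h : Matrix ι ι F) *ᵥ v) = bf G u v := by
  rw [bf_mulVec, hH.isom h hh]

/-- a scalar in `H` is trivial (odd dimension) -/
theorem OHyp.scalar_eq_one {G : Matrix ι ι F} {H : Subgroup (GL ι F)} (hH : OHyp G H)
    (hG : G.det ≠ 0) (hodd : Odd (Fintype.card ι)) {h : GL ι F} (hh : h ∈ H) {c : F}
    (hc : (h : Matrix ι ι F) = c • (1 : Matrix ι ι F)) : c = 1 := by
  have h1 := hH.isom h hh
  rw [hc, Matrix.transpose_smul, Matrix.transpose_one, Matrix.smul_mul, Matrix.one_mul,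
    Matrix.mul_smul, Matrix.mul_one, smul_smul] at h1
  have hG0 : G ≠ 0 := by
    rintro rfl
    apply hG
    have : Nonempty ι := by
      by_contra hne
      rw [not_nonempty_iff] at hne
      rw [Fintype.card_eq_zero] at hodd
      exact absurd hodd (by decide)
    exact Matrix.det_zero
  have hcc : c * c = 1 := by
    by_contra hne
    apply hG0
    have h3 : (c * c - 1) • G = 0 := by rw [sub_smul, h1, one_smul, sub_self]
    rcases smul_eq_zero.mp h3 with h4 | h4
    · exact absurd (sub_eq_zero.mp h4) hne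
    · exact h4
  have h5 := hH.det h hh
  rw [hc, Matrix.det_smul, Matrix.det_one, mul_one] at h5
  obtain ⟨k, hk⟩ := hodd
  rw [hk, pow_succ, pow_mul, _root_.sq, hcc, one_pow, one_mul] at h5
  exact h5

theorem OHyp.mem_scalars_imp {G : Matrix ι ι F} {H : Subgroup (GL ι F)} (hH : OHyp G H)
    (hG : G.det ≠ 0) (hodd : Odd (Fintype.card ι)) {h : GL ι F} (hh : h ∈ H)
    (hs : h ∈ scalars ι F) : h = 1 := by
  obtain ⟨c, hc⟩ := (mem_scalars_iff h).mp hs
  have h1 := hH.scalar_eq_one hG hodd hh hc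
  apply Units.ext
  rw [hc, h1, one_smul, Units.val_one]

/-! ### invariant subspaces -/

theorem le_stabilizer_of_invariant (H : Subgroup (GL ι F)) (W : Submodule F (ι → F))
    (hW : ∀ g ∈ H, ∀ w ∈ W, (g : Matrix ι ι F) *ᵥ w ∈ W) : H ≤ subspaceStabilizer W := by
  intro g hg v
  constructor
  · intro hv
    exact hW g hg v hv
  · intro hv
    have h2 := hW g⁻¹ (H.inv_mem hg) _ hv
    have e : ((g⁻¹ : GL ι F) : Matrix ι ι F) *ᵥ ((glToMat ι F) g *ᵥ v) = v := by
      show ((g⁻¹ : GL ι F) : Matrix ι ι F) *ᵥ ((g : Matrix ι ι F) *ᵥ v) = v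
      rw [Matrix.mulVec_mulVec, ← Units.val_mul, inv_mul_cancel, Units.val_one, Matrix.one_mulVec]
    rwa [e] at h2

/-- the orthogonal of a subspace for the form `bf G` -/
def perp (G : Matrix ι ι F) (W : Submodule F (ι → F)) : Submodule F (ι → F) where
  carrier := {v | ∀ w ∈ W, bf G w v = 0}
  add_mem' := by
    intro a b ha hb w hw
    rw [bf_add_right, ha w hw, hb w hw, add_zero]
  zero_mem' := fun w _ => bf_zero_right G w
  smul_mem' := by
    intro c a ha w hw
    rw [bf_smul_right, ha w hw, mul_zero]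

theorem mem_perp {G : Matrix ι ι F} {W : Submodule F (ι → F)} {v : ι → F} :
    v ∈ perp G W ↔ ∀ w ∈ W, bf G w v = 0 := Iff.rfl

theorem OHyp.perp_invariant {G : Matrix ι ι F} {H : Subgroup (GL ι F)} (hH : OHyp G H)
    {W : Submodule F (ι → F)} (hW : ∀ g ∈ H, ∀ w ∈ W, (g : Matrix ι ι F) *ᵥ w ∈ W) :
    ∀ g ∈ H, ∀ w ∈ perp G W, (g : Matrix ι ι F) *ᵥ w ∈ perp G W := by
  intro g hg v hv w hw
  have h1 := hW g⁻¹ (H.inv_mem hg) w hw
  have h2 := hH.bf_eq hg (((g⁻¹ : GL ι F) : Matrix ι ι F) *ᵥ w) v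
  rw [Matrix.mulVec_mulVec, ← Units.val_mul, mul_inv_cancel, Units.val_one, Matrix.one_mulVec] at h2
  rw [h2]
  exact hv _ h1

/-- the reducible case: an invariant totally singular or non-degenerate proper subspace -/
theorem reducible_cases (Q : QuadraticForm F (ι → F)) (h2 : (2 : F) ≠ 0)
    {H : Subgroup (GL ι F)} (hH : OHyp (gramQ Q) H) (hred : ¬ Irr (HV H)) :
    ∃ W : Submodule F (ι → F), W ≠ ⊥ ∧ H ≤ subspaceStabilizer W ∧
      (IsTotallySingularQuad ⇑Q W ∨ (W ≠ ⊤ ∧ IsNondegenerateOn (polar ⇑Q) W)) := by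
  unfold Irr at hred
  push Not at hred
  obtain ⟨W, hW, hbot, htop⟩ := hred
  have hW' : ∀ g ∈ H, ∀ w ∈ W, (g : Matrix ι ι F) *ᵥ w ∈ W := by
    intro g hg w hw
    have := hW (toV g) (mem_HV hg) w hw
    rwa [toV_apply] at this
  by_cases hR : W ⊓ perp (gramQ Q) W = ⊥
  · refine ⟨W, hbot, le_stabilizer_of_invariant H W hW', Or.inr ⟨htop, ?_⟩⟩
    intro w hw hw0
    have h1 : w ∉ perp (gramQ Q) W := by
      intro hwp
      have : w ∈ W ⊓ perp (gramQ Q) W := ⟨hw, hwp⟩
      rw [hR] at this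
      exact hw0 ((Submodule.mem_bot F).mp this)
    rw [mem_perp] at h1
    push Not at h1
    obtain ⟨x, hx, hxw⟩ := h1
    refine ⟨⟨x, hx, ?_⟩, ⟨x, hx, ?_⟩⟩
    · rw [polar_eq_bf]; exact hxw
    · rw [polar_comm, polar_eq_bf]; exact hxw
  · refine ⟨W ⊓ perp (gramQ Q) W, hR, ?_, Or.inl ?_⟩
    · apply le_stabilizer_of_invariant
      intro g hg w hw
      exact ⟨hW' g hg w hw.1, hH.perp_invariant hW' g hg w hw.2⟩
    · intro w hw
      have h1 : bf (gramQ Q) w w = 0 := hw.2 w hw.1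
      rw [← two_mul_Q] at h1
      rcases mul_eq_zero.mp h1 with h | h
      · exact absurd h h2
      · exact h

end Cfsg.Agent.Lib.Helper5.AschO
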