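import Cfsg.Agent.Lib.Helper5.AschO.Basic
import Cfsg.Agent.Lib.Helper5.PslGraph.OddDim

set_option autoImplicit false

/-! Over a finite field of odd order any two non-degenerate symmetric bilinear forms of the same
odd dimension are similar. -/

namespace Cfsg.Agent.Lib.Helper5.AschO

open Module Matrix QuadraticMap
open Cfsg Cfsg.Geo Cfsg.Agent.Lib.Helper8.Asch

variable {F : Type*} [Field F]
variable {κ : Type} [Fintype κ] [DecidableEq κ]

/-- the quadratic form `v ↦ bf S v v` -/
noncomputable def qf (S : Matrix κ κ F) : QuadraticForm F (κ → F) :=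
  LinearMap.BilinMap.toQuadraticMap (Matrix.toBilin' S)

theorem qf_apply (S : Matrix κ κ F) (v : κ → F) : qf S v = bf S v v := by
  unfold qf
  rw [LinearMap.BilinMap.toQuadraticMap_apply, Matrix.toBilin'_apply']
  rfl

theorem polar_qf {S : Matrix κ κ F} (hS : Sᵀ = S) (u v : κ → F) :
    polar (qf S) u v = 2 * bf S u v := by
  unfold polar
  rw [qf_apply, qf_apply, qf_apply, bf_add_left, bf_add_right, bf_add_right, bf_symm hS v u]
  ring

theorem qf_nondeg {S : Matrix κ κ F} (h2 : (2 : F) ≠ 0) (hS : Sᵀ = S) (hdet : S.det ≠ 0) :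
    (polarBilin (qf S)).Nondegenerate := by
  constructor
  · intro x hx
    apply bf_eq_zero_of_det' hdet
    intro y
    have := hx y
    rw [QuadraticMap.polarBilin_apply_apply, polar_qf hS] at this
    exact (mul_eq_zero.mp this).resolve_left h2
  · intro x hx
    apply bf_eq_zero_of_det hdet
    intro y
    have := hx y
    rw [QuadraticMap.polarBilin_apply_apply, polar_qf hS] at this
    exact (mul_eq_zero.mp this).resolve_left h2

open Cfsg.Agent.Lib.Helper5.PslGraph (oddFormD oddFormD_apply eq_oddFormD_of_basis scaleMap)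

theorem oddFormD_scaleMap (m : ℕ) (d c : F) (x : Unit ⊕ (Fin m ⊕ Fin m) → F) :
    oddFormD m (c * d) (scaleMap m c x) = c * oddFormD m d x := by
  rw [oddFormD_apply, oddFormD_apply]
  unfold scaleMap
  simp only [LinearMap.coe_mk, AddHom.coe_mk, Sum.elim_inl, Sum.elim_inr]
  rw [mul_add, Finset.mul_sum]
  congr 1
  · ring
  · apply Finset.sum_congr rfl
    intro i _
    ring

/-- similarity of symmetric forms in odd dimension -/
theorem sim_symm [Finite F] (h2 : (2 : F) ≠ 0) {a : ℕ} (ha : Odd a)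
    (S T : Matrix (Fin a) (Fin a) F) (hS : Sᵀ = S) (hT : Tᵀ = T) (hSd : S.det ≠ 0)
    (hTd : T.det ≠ 0) :
    ∃ (R : GL (Fin a) F) (c : F), c ≠ 0 ∧
      (R : Matrix (Fin a) (Fin a) F)ᵀ * T * (R : Matrix (Fin a) (Fin a) F) = c • S := by
  obtain ⟨m, hm⟩ := ha
  have hV : Module.finrank F (Fin a → F) = 2 * m + 1 := by
    rw [Module.finrank_fin_fun, hm]
  obtain ⟨bS, hdS, s0, s1, s2, s3⟩ := Cfsg.Agent.S2618.result hV (qf S) (qf_nondeg h2 hS hSd)
  obtain ⟨bT, hdT, t0, t1, t2, t3⟩ := Cfsg.Agent.S2618.result hV (qf T) (qf_nondeg h2 hT hTd)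
  have hQS := eq_oddFormD_of_basis (qf S) bS s0 s1 s2 s3
  have hQT := eq_oddFormD_of_basis (qf T) bT t0 t1 t2 t3
  set dS := qf S (bS (Sum.inl ())) with hdSdef
  set dT := qf T (bT (Sum.inl ())) with hdTdef
  set c := dT * dS⁻¹ with hc
  have hc0 : c ≠ 0 := mul_ne_zero hdT (inv_ne_zero hdS)
  have hcd : c * dS = dT := by rw [hc, mul_assoc, inv_mul_cancel₀ hdS, mul_one]
  let g : (Fin a → F) →ₗ[F] (Fin a → F) :=
    bT.equivFun.symm.toLinearMap ∘ₗ scaleMap m c ∘ₗ bS.equivFun.toLinearMap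
  have hg : ∀ v, qf T (g v) = c * qf S v := by
    intro v
    rw [hQT, hQS]
    show oddFormD m dT (bT.equivFun (bT.equivFun.symm (scaleMap m c (bS.equivFun v)))) = _
    rw [LinearEquiv.apply_symm_apply, ← hcd, oddFormD_scaleMap]
  set R := LinearMap.toMatrix' g with hR
  have hgR : ∀ v, g v = R *ᵥ v := fun v => (LinearMap.toMatrix'_mulVec g v).symm
  have hRT : Rᵀ * T * R = c • S := by
    apply bf_ext
    intro u v
    rw [← bf_mulVec, bf_smul_mat, ← hgR, ← hgR]
    have h1 : polar (qf T) (g u) (g v) = c * polar (qf S) u v := by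
      unfold polar
      rw [← map_add, hg, hg, hg]
      ring
    rw [polar_qf hT, polar_qf hS] at h1
    have h3 : 2 * bf T (g u) (g v) = 2 * (c * bf S u v) := by rw [h1]; ring
    exact mul_left_cancel₀ h2 h3
  have hRdet : R.det ≠ 0 := by
    intro h0
    have := congrArg Matrix.det hRT
    rw [Matrix.det_mul, Matrix.det_mul, Matrix.det_transpose, h0, zero_mul, zero_mul,
      Matrix.det_smul] at this
    exact mul_ne_zero (pow_ne_zero _ hc0) hSd this.symm
  refine ⟨Matrix.GeneralLinearGroup.mk'' R (Ne.isUnit hRdet), c, hc0, ?_⟩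
  exact hRT

end Cfsg.Agent.Lib.Helper5.AschO
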