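import Cfsg.Agent.Lib.Helper5.AschO.Tensor
import Cfsg.Agent.Lib.Helper5.AschO.Sim
import Cfsg.Agent.Lib.Helper8.AschF3

set_option autoImplicit false

/-! The wreath form with a symmetric form: the Gram matrix is a scalar multiple of a tensor
power of one symmetric matrix, after a change of basis preserving the wreath form. -/

namespace Cfsg.Agent.Lib.Helper5.AschO

open Module Matrix
open scoped Kronecker
open Cfsg Cfsg.Geo Cfsg.Agent.Lib.Helper8.Asch

variable {ι : Type} [Fintype ι] [DecidableEq ι] {F : Type*} [Field F]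

/-- `posMat i` as an algebra homomorphism -/
def posAlg (t k : ℕ) (F : Type*) [Field F] (i : Fin t) :
    Matrix (Fin k) (Fin k) F →ₐ[F] Matrix (Fin t → Fin k) (Fin t → Fin k) F :=
  AlgHom.ofLinearMap
    { toFun := fun X => posMat i X
      map_add' := fun X Y => posMat_add i X Y
      map_smul' := fun c X => posMat_smul i c X }
    (posMat_one i)
    (fun X Y => (posMat_mul i X Y).symm)

theorem posAlg_apply (t k : ℕ) (i : Fin t) (X : Matrix (Fin k) (Fin k) F) :
    posAlg t k F i X = posMat i X := rfl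

theorem posMat_transpose {t k : ℕ} (i : Fin t) (X : Matrix (Fin k) (Fin k) F) :
    (posMat i X)ᵀ = posMat i Xᵀ := by
  unfold posMat
  rw [ptM_transpose]
  congr 1
  funext j
  by_cases hj : j = i
  · subst hj
    simp
  · simp [Function.update_of_ne hj]

/-- the wreath form of the elements of `H` in a basis -/
def IsWreathIn (H : Subgroup (GL ι F)) {t k : ℕ} (b : Basis (Fin t → Fin k) F (ι → F)) : Prop :=
  ∀ h ∈ H, ∃ (σ : Equiv.Perm (Fin t)) (Us : Fin t → GL (Fin k) F),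
    LinearMap.toMatrix b b (Matrix.toLin' (h : Matrix ι ι F)) =
      facPerm k F σ * ptM (fun i => ((Us i : GL (Fin k) F) : Matrix (Fin k) (Fin k) F))

/-- the Gram matrix in a tensor factor basis with adjoint-closed factor algebras -/
theorem wreath_gram {G : Matrix ι ι F} (hG : G.det ≠ 0) (hs : Gᵀ = G) (h2 : (2 : F) ≠ 0)
    {t k : ℕ} (hk : Odd k) (b : Basis (Fin t → Fin k) F (ι → F))
    (A : Fin t → Subalgebra F (Module.End F (ι → F)))
    (hb1 : ∀ i, ∀ x ∈ A i, ∃ X : Matrix (Fin k) (Fin k) F, LinearMap.toMatrix b b x = posMat i X)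
    (hb2 : ∀ i, ∀ X : Matrix (Fin k) (Fin k) F, ∃ x ∈ A i, LinearMap.toMatrix b b x = posMat i X)
    (hadj : ∀ i, ∀ x ∈ A i, adj G x ∈ A i) :
    ∃ (c : F) (Ss : Fin t → Matrix (Fin k) (Fin k) F), c ≠ 0 ∧ (∀ i, (Ss i)ᵀ = Ss i) ∧
      (∀ i, (Ss i).det ≠ 0) ∧ gramB G b = c • ptM Ss := by
  have hk0 : 0 < k := hk.pos
  haveI : Nonempty (Fin k) := ⟨⟨0, hk0⟩⟩
  set B := gramB G b with hB
  have hBdet : B.det ≠ 0 := gramB_det hG b
  have hBs : Bᵀ = B := gramB_symm hs b
  have hU : ∀ i, ∃ U : GL (Fin k) F,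
      (∀ X, B * posMat i ((U : Matrix (Fin k) (Fin k) F) * Xᵀ *
        ((U⁻¹ : GL (Fin k) F) : Matrix (Fin k) (Fin k) F)) = (posMat i X)ᵀ * B) ∧
      (U : Matrix (Fin k) (Fin k) F)ᵀ = (U : Matrix (Fin k) (Fin k) F) := by
    intro i
    have hinj : Function.Injective (posAlg t k F i) := posMat_injective hk0 i
    have hex : ∀ X, ∃ X', B * posAlg t k F i X' = (posAlg t k F i X)ᵀ * B := by
      intro X
      obtain ⟨x, hx, hxX⟩ := hb2 i X
      obtain ⟨X', hX'⟩ := hb1 i _ (hadj i x hx)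
      refine ⟨X', ?_⟩
      rw [posAlg_apply, posAlg_apply, ← hX', ← hxX]
      exact toMatrix_adj hG b x
    obtain ⟨U, hU1, hU2⟩ := antiaut (posAlg t k F i) hinj B hBdet hBs hex h2
      (by rw [Fintype.card_fin]; exact hk)
    exact ⟨U, hU1, hU2⟩
  choose U hU1 hU2 using hU
  set Um : Fin t → Matrix (Fin k) (Fin k) F := fun i => (U i : Matrix (Fin k) (Fin k) F) with hUm
  set Ui : Fin t → Matrix (Fin k) (Fin k) F :=
    fun i => (((U i)⁻¹ : GL (Fin k) F) : Matrix (Fin k) (Fin k) F) with hUi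
  have u1 : ∀ j, Um j * Ui j = 1 := fun j => by
    show (U j : Matrix (Fin k) (Fin k) F) * (((U j)⁻¹ : GL (Fin k) F) : Matrix (Fin k) (Fin k) F) = 1
    rw [← Units.val_mul, mul_inv_cancel, Units.val_one]
  have u2 : ∀ j, Ui j * Um j = 1 := fun j => by
    show (((U j)⁻¹ : GL (Fin k) F) : Matrix (Fin k) (Fin k) F) * (U j : Matrix (Fin k) (Fin k) F) = 1
    rw [← Units.val_mul, inv_mul_cancel, Units.val_one]
  have hUU : ptM Um * ptM Ui = 1 := by
    rw [ptM_mul]
    simp only [u1]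
    exact ptM_one
  have hUU' : ptM Ui * ptM Um = 1 := by
    rw [ptM_mul]
    simp only [u2]
    exact ptM_one
  set C := B * ptM Um with hC
  have hCcomm : ∀ i (Y : Matrix (Fin k) (Fin k) F), C * posMat i Y = posMat i Y * C := by
    intro i Y
    have h1 := hU1 i Yᵀ
    rw [Matrix.transpose_transpose, posMat_transpose, Matrix.transpose_transpose] at h1
    have h3 : ptM Um * posMat i Y = posMat i (Um i * Y * Ui i) * ptM Um := by
      have := ptM_conj_posMat Um Ui i Y u1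
      calc ptM Um * posMat i Y = ptM Um * posMat i Y * (ptM Ui * ptM Um) := by
            rw [hUU', Matrix.mul_one]
        _ = (ptM Um * posMat i Y * ptM Ui) * ptM Um := by simp only [Matrix.mul_assoc]
        _ = posMat i (Um i * Y * Ui i) * ptM Um := by rw [this]
    calc C * posMat i Y = B * (ptM Um * posMat i Y) := by rw [hC, Matrix.mul_assoc]
      _ = B * posMat i (Um i * Y * Ui i) * ptM Um := by rw [h3, ← Matrix.mul_assoc]
      _ = posMat i Y * C := by
          have h1' : B * posMat i (Um i * Y * Ui i) = posMat i Y * B := h1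
          rw [h1', hC, Matrix.mul_assoc]
  obtain ⟨c, hc⟩ := scalar_of_commute_posMat C hCcomm
  have hBc : B = c • ptM Ui := by
    calc B = B * (ptM Um * ptM Ui) := by rw [hUU, Matrix.mul_one]
      _ = C * ptM Ui := by rw [hC, Matrix.mul_assoc]
      _ = c • ptM Ui := by rw [hc, Matrix.smul_mul, Matrix.one_mul]
  have hc0 : c ≠ 0 := by
    rintro rfl
    rw [zero_smul] at hBc
    apply hBdet
    rw [hBc]
    haveI : Nonempty (Fin t → Fin k) := ⟨fun _ => ⟨0, hk0⟩⟩
    exact Matrix.det_zero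
  refine ⟨c, Ui, hc0, ?_, ?_, hBc⟩
  · intro i
    have h1 : (Ui i)ᵀ * Um i = 1 := by
      have : (Um i)ᵀ = Um i := hU2 i
      rw [← this, ← Matrix.transpose_mul, u1, Matrix.transpose_one]
    calc (Ui i)ᵀ = (Ui i)ᵀ * (Um i * Ui i) := by rw [u1, Matrix.mul_one]
      _ = ((Ui i)ᵀ * Um i) * Ui i := by rw [Matrix.mul_assoc]
      _ = Ui i := by rw [h1, Matrix.one_mul]
  · intro i
    exact Matrix.GeneralLinearGroup.det_ne_zero (U i)⁻¹

/-- the normalised data: the Gram matrix is a multiple of a tensor power -/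
def WreathData (G : Matrix ι ι F) (H : Subgroup (GL ι F)) (t k : ℕ) : Prop :=
  ∃ (b : Basis (Fin t → Fin k) F (ι → F)) (S : Matrix (Fin k) (Fin k) F) (c : F), c ≠ 0 ∧
    Sᵀ = S ∧ S.det ≠ 0 ∧ gramB G b = c • ptM (fun _ => S) ∧ IsWreathIn H b

theorem wreath_normalize_to [Finite F] {G : Matrix ι ι F} (h2 : (2 : F) ≠ 0)
    {H : Subgroup (GL ι F)}
    {t k : ℕ} (hk : Odd k) (b : Basis (Fin t → Fin k) F (ι → F)) (c : F) (hc : c ≠ 0)
    (Ss : Fin t → Matrix (Fin k) (Fin k) F) (hSs : ∀ i, (Ss i)ᵀ = Ss i)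
    (hSd : ∀ i, (Ss i).det ≠ 0) (hB : gramB G b = c • ptM Ss) (hW : IsWreathIn H b)
    (S₀ : Matrix (Fin k) (Fin k) F) (hS₀s : S₀ᵀ = S₀) (hS₀d : S₀.det ≠ 0) :
    ∃ (b' : Basis (Fin t → Fin k) F (ι → F)) (c' : F), c' ≠ 0 ∧
      gramB G b' = c' • ptM (fun _ => S₀) ∧ IsWreathIn H b' := by
  have hR : ∀ i, ∃ (R : GL (Fin k) F) (l : F), l ≠ 0 ∧
      (R : Matrix (Fin k) (Fin k) F)ᵀ * Ss i * (R : Matrix (Fin k) (Fin k) F) = l • S₀ :=
    fun i => sim_symm h2 hk S₀ (Ss i) hS₀s (hSs i) hS₀d (hSd i)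
  choose R l hl hRl using hR
  refine ⟨chgBasis b (ptGL R), c * ∏ i, l i, ?_, ?_, ?_⟩
  · exact mul_ne_zero hc (Finset.prod_ne_zero_iff.mpr (fun i _ => hl i))
  · rw [gramB_chgBasis, hB]
    show (ptM (fun i => ((R i : GL (Fin k) F) : Matrix (Fin k) (Fin k) F)))ᵀ * (c • ptM Ss) *
      ptM (fun i => ((R i : GL (Fin k) F) : Matrix (Fin k) (Fin k) F)) = _
    rw [ptM_transpose, Matrix.mul_smul, Matrix.smul_mul, ptM_mul, ptM_mul]
    simp only [hRl]
    rw [ptM_smul_family, smul_smul]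
  · intro h hh
    obtain ⟨σ, Us, hσU⟩ := hW h hh
    refine ⟨σ, fun i => (R (σ i))⁻¹ * Us i * R i, ?_⟩
    rw [toMatrix_chgBasis, hσU]
    show ptM (fun i => (((R i)⁻¹ : GL (Fin k) F) : Matrix (Fin k) (Fin k) F)) *
      (facPerm k F σ * ptM (fun i => ((Us i : GL (Fin k) F) : Matrix (Fin k) (Fin k) F))) *
      ptM (fun i => ((R i : GL (Fin k) F) : Matrix (Fin k) (Fin k) F)) = _
    have h1 : ptM (fun i => (((R i)⁻¹ : GL (Fin k) F) : Matrix (Fin k) (Fin k) F)) * facPerm k F σ =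
        facPerm k F σ * ptM (fun i => (((R (σ i))⁻¹ : GL (Fin k) F) : Matrix (Fin k) (Fin k) F)) := by
      have h3 := facPerm_conj_ptM (m := k) (F := F) σ⁻¹
        (fun i => (((R i)⁻¹ : GL (Fin k) F) : Matrix (Fin k) (Fin k) F))
      rw [inv_inv] at h3
      have h4 : ∀ i, (σ⁻¹ : Equiv.Perm (Fin t)).symm i = σ i := fun i => rfl
      simp only [h4] at h3
      rw [← h3]
      calc ptM (fun i => (((R i)⁻¹ : GL (Fin k) F) : Matrix (Fin k) (Fin k) F)) * facPerm k F σ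
          = (facPerm k F σ * facPerm k F σ⁻¹) *
            ptM (fun i => (((R i)⁻¹ : GL (Fin k) F) : Matrix (Fin k) (Fin k) F)) * facPerm k F σ := by
            rw [facPerm_mul, mul_inv_cancel, facPerm_one, Matrix.one_mul]
        _ = _ := by simp only [Matrix.mul_assoc]
    calc ptM (fun i => (((R i)⁻¹ : GL (Fin k) F) : Matrix (Fin k) (Fin k) F)) *
          (facPerm k F σ * ptM (fun i => ((Us i : GL (Fin k) F) : Matrix (Fin k) (Fin k) F))) *
          ptM (fun i => ((R i : GL (Fin k) F) : Matrix (Fin k) (Fin k) F))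
        = (ptM (fun i => (((R i)⁻¹ : GL (Fin k) F) : Matrix (Fin k) (Fin k) F)) * facPerm k F σ) *
          ptM (fun i => ((Us i : GL (Fin k) F) : Matrix (Fin k) (Fin k) F)) *
          ptM (fun i => ((R i : GL (Fin k) F) : Matrix (Fin k) (Fin k) F)) := by
          simp only [Matrix.mul_assoc]
      _ = facPerm k F σ * ptM (fun i => (((R (σ i))⁻¹ * Us i * R i : GL (Fin k) F) :
            Matrix (Fin k) (Fin k) F)) := by
          rw [h1, Matrix.mul_assoc, Matrix.mul_assoc, ptM_mul, ptM_mul]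
          simp only [Units.val_mul, Matrix.mul_assoc]

theorem wreath_normalize [Finite F] {G : Matrix ι ι F} (h2 : (2 : F) ≠ 0) {H : Subgroup (GL ι F)}
    {t k : ℕ} (ht : 0 < t) (hk : Odd k) (b : Basis (Fin t → Fin k) F (ι → F)) (c : F) (hc : c ≠ 0)
    (Ss : Fin t → Matrix (Fin k) (Fin k) F) (hSs : ∀ i, (Ss i)ᵀ = Ss i)
    (hSd : ∀ i, (Ss i).det ≠ 0) (hB : gramB G b = c • ptM Ss) (hW : IsWreathIn H b) :
    WreathData G H t k := by
  obtain ⟨b', c', hc', hB', hW'⟩ := wreath_normalize_to h2 hk b c hc Ss hSs hSd hB hW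
    (Ss ⟨0, ht⟩) (hSs _) (hSd _)
  exact ⟨b', Ss ⟨0, ht⟩, c', hc', hSs _, hSd _, hB', hW'⟩

end Cfsg.Agent.Lib.Helper5.AschO
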