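import Mathlib
import Cfsg.Agent.Lib.Helper5.AschO.Basis
import Cfsg.Agent.Lib.Helper5.AschO.Wreath
import Cfsg.Agent.Lib.Helper5.AschO.Reducible
import Cfsg.Agent.Lib.Helper8.AschM4

set_option autoImplicit false

/-! The geometric classes for an odd-dimensional quadratic form on a general index type, and the
translation of the structural outcomes into these classes. -/

namespace Cfsg.Agent.Lib.Helper5.AschO

open Module Matrix QuadraticMap
open scoped Kronecker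
open Cfsg Cfsg.Geo Cfsg.Agent.Lib.Helper8.Asch

variable {ι : Type} [Fintype ι] [DecidableEq ι] {F : Type*} [Field F]

/-- the classes of `InOrthogonalOddClass`, for a general index type -/
def InOClassGen [Fintype F] (Q : (ι → F) → F) (M : Subgroup (GL ι F)) : Prop :=
  (∃ W : Submodule F (ι → F), W ≠ ⊥ ∧ IsTotallySingularQuad Q W ∧
      M = subspaceStabilizer W ⊓ isometryGroup F Q) ∨
  (∃ W : Submodule F (ι → F), W ≠ ⊥ ∧ W ≠ ⊤ ∧ IsNondegenerateOn (polar Q) W ∧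
      M = subspaceStabilizer W ⊓ isometryGroup F Q) ∨
  (∃ (t k : ℕ) (D : Fin t → Submodule F (ι → F)), 1 < k ∧ IsOrthogonalMDecomposition Q k D ∧
      M = decompositionStabilizer D ⊓ isometryGroup F Q) ∨
  (∃ (t : ℕ) (D : Fin t → Submodule F (ι → F)), (Fintype.card F).Prime ∧
      IsOrthogonalMDecomposition Q 1 D ∧ M = decompositionStabilizer D ⊓ isometryGroup F Q) ∨
  (∃ (r : ℕ) (K : Subalgebra F (Matrix ι ι F)), r.Prime ∧ Fintype.card ι ≠ r ∧
      IsFieldSubalgebra r K ∧ IsSelfAdjointFor (polar Q) K ∧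
      M = subalgebraNormalizer K ⊓ isometryGroup F Q) ∨
  (∃ (n₁ n₂ : ℕ) (e : ι ≃ Fin n₁ × Fin n₂) (P : GL ι F)
      (f₁ : (Fin n₁ → F) → (Fin n₁ → F) → F) (f₂ : (Fin n₂ → F) → (Fin n₂ → F) → F),
      3 ≤ n₁ ∧ n₁ < n₂ ∧ IsSymmetricForm f₁ ∧ IsSymmetricForm f₂ ∧
      IsTensorFormStructure id (polar Q) f₁ f₂ e P ∧
      M = tensorProductSubgroup n₁ n₂ e P ⊓ isometryGroup F Q) ∨
  (∃ (F₀ : Subfield F) (r : ℕ) (P : GL ι F), r.Prime ∧ Fintype.card F = Nat.card F₀ ^ r ∧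
      IsQuadFormRationalStructure Q F₀ P ∧ M = subfieldSubgroup F₀ P ⊓ isometryGroup F Q) ∨
  (∃ (k t : ℕ) (e : ι ≃ (Fin t → Fin k)) (P : GL ι F)
      (f₁ : (Fin k → F) → (Fin k → F) → F), 3 ≤ k ∧ 2 ≤ t ∧
      ¬ (Fintype.card F = 3 ∧ k = 3) ∧ IsSymmetricForm f₁ ∧
      IsTensorPowerFormStructure id (polar Q) f₁ e P ∧
      M = tensorWreathSubgroup k t e P ⊓ isometryGroup F Q)

section classes

variable [Fintype F] {Q : (ι → F) → F} {H : Subgroup (GL ι F)}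

theorem cls1a (hI : H ≤ isometryGroup F Q) {W : Submodule F (ι → F)} (hW : W ≠ ⊥)
    (hts : IsTotallySingularQuad Q W) (hH : H ≤ subspaceStabilizer W) :
    ∃ M, InOClassGen Q M ∧ H ≤ M :=
  ⟨_, Or.inl ⟨W, hW, hts, rfl⟩, le_inf hH hI⟩

theorem cls1b (hI : H ≤ isometryGroup F Q) {W : Submodule F (ι → F)} (hW : W ≠ ⊥)
    (hW' : W ≠ ⊤) (hnd : IsNondegenerateOn (polar Q) W) (hH : H ≤ subspaceStabilizer W) :
    ∃ M, InOClassGen Q M ∧ H ≤ M :=
  ⟨_, Or.inr (Or.inl ⟨W, hW, hW', hnd, rfl⟩), le_inf hH hI⟩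

theorem cls2 (hI : H ≤ isometryGroup F Q) {t k : ℕ} {D : Fin t → Submodule F (ι → F)}
    (hk : 1 < k) (hD : IsOrthogonalMDecomposition Q k D) (hH : H ≤ decompositionStabilizer D) :
    ∃ M, InOClassGen Q M ∧ H ≤ M :=
  ⟨_, Or.inr (Or.inr (Or.inl ⟨t, k, D, hk, hD, rfl⟩)), le_inf hH hI⟩

theorem cls2' (hI : H ≤ isometryGroup F Q) {t : ℕ} {D : Fin t → Submodule F (ι → F)}
    (hp : (Fintype.card F).Prime) (hD : IsOrthogonalMDecomposition Q 1 D)
    (hH : H ≤ decompositionStabilizer D) :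
    ∃ M, InOClassGen Q M ∧ H ≤ M :=
  ⟨_, Or.inr (Or.inr (Or.inr (Or.inl ⟨t, D, hp, hD, rfl⟩))), le_inf hH hI⟩

theorem cls3 (hI : H ≤ isometryGroup F Q) {r : ℕ} {K : Subalgebra F (Matrix ι ι F)}
    (hr : r.Prime) (hne : Fintype.card ι ≠ r) (hK : IsFieldSubalgebra r K)
    (hsa : IsSelfAdjointFor (polar Q) K) (hH : H ≤ subalgebraNormalizer K) :
    ∃ M, InOClassGen Q M ∧ H ≤ M :=
  ⟨_, Or.inr (Or.inr (Or.inr (Or.inr (Or.inl ⟨r, K, hr, hne, hK, hsa, rfl⟩)))), le_inf hH hI⟩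

theorem cls5 (hI : H ≤ isometryGroup F Q) {F₀ : Subfield F} {r : ℕ} {P : GL ι F}
    (hr : r.Prime) (hcard : Fintype.card F = Nat.card F₀ ^ r)
    (hP : IsQuadFormRationalStructure Q F₀ P) (hH : H ≤ subfieldSubgroup F₀ P) :
    ∃ M, InOClassGen Q M ∧ H ≤ M :=
  ⟨_, Or.inr (Or.inr (Or.inr (Or.inr (Or.inr (Or.inr (Or.inl
    ⟨F₀, r, P, hr, hcard, hP, rfl⟩)))))), le_inf hH hI⟩

end classes

/-- the symmetric form of an invertible symmetric matrix -/
theorem isSymmetricForm_bf {κ : Type} [Fintype κ] [DecidableEq κ] (S : Matrix κ κ F)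
    (hS : Sᵀ = S) (hd : S.det ≠ 0) : IsSymmetricForm (bf S) where
  bilinear := ⟨bf_add_left S, bf_smul_left S, bf_add_right S, bf_smul_right S⟩
  symm := bf_symm hS
  nondegenerate := by
    intro v hv
    constructor
    · by_contra hcon
      push Not at hcon
      exact hv (bf_eq_zero_of_det hd hcon)
    · by_contra hcon
      push Not at hcon
      exact hv (bf_eq_zero_of_det' hd hcon)

theorem gramMatrix_bf {κ : Type} [Fintype κ] [DecidableEq κ] (S : Matrix κ κ F) :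
    gramMatrix (bf S) = S := by
  ext a b
  exact bf_single S a b

/-- class 4 from a tensor factorisation of the Gram matrix -/
theorem cls4 [Fintype F] (Q : QuadraticForm F (ι → F)) {H : Subgroup (GL ι F)}
    (hI : H ≤ isometryGroup F ⇑Q) {a e : ℕ} (ha : 3 ≤ a) (hae : a < e)
    (b : Basis (Fin a × Fin e) F (ι → F))
    (S : Matrix (Fin a) (Fin a) F) (T : Matrix (Fin e) (Fin e) F) (hS : Sᵀ = S) (hT : Tᵀ = T)
    (hSd : S.det ≠ 0) (hTd : T.det ≠ 0) (hB : gramB (gramQ Q) b = S ⊗ₖ T)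
    (hH : ∀ h ∈ H, ∃ (U : GL (Fin a) F) (Γ : GL (Fin e) F),
      LinearMap.toMatrix b b (Matrix.toLin' (h : Matrix ι ι F)) =
        (U : Matrix (Fin a) (Fin a) F) ⊗ₖ (Γ : Matrix (Fin e) (Fin e) F)) :
    ∃ M, InOClassGen (⇑Q) M ∧ H ≤ M := by
  have hcard : Fintype.card ι = Fintype.card (Fin a × Fin e) := by
    have h1 := Module.finrank_eq_card_basis b
    rw [Module.finrank_fintype_fun_eq_card] at h1
    exact h1
  let eι : ι ≃ Fin a × Fin e := Fintype.equivOfCardEq hcard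
  refine ⟨tensorProductSubgroup a e eι (basisGL b eι) ⊓ isometryGroup F ⇑Q,
    Or.inr (Or.inr (Or.inr (Or.inr (Or.inr (Or.inl ⟨a, e, eι, basisGL b eι, bf S, bf T, ha, hae,
      isSymmetricForm_bf S hS hSd, isSymmetricForm_bf T hT hTd, ?_, rfl⟩))))), le_inf ?_ hI⟩
  · refine ⟨1, one_ne_zero, fun x y => ?_⟩
    rw [one_mul, polar_eq_bf, bf_basisGL, hB, gramMatrix_bf, gramMatrix_bf]
    rfl
  · intro h hh
    obtain ⟨U, Γ, hUΓ⟩ := hH h hh
    exact mem_conj_basisGL (kroneckerSubgroup a e F) b eι h ⟨kronGL U Γ, ⟨U, Γ, rfl⟩, hUΓ⟩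

/-- class 7 from the normalised wreath data -/
theorem cls7 [Fintype F] (Q : QuadraticForm F (ι → F)) {H : Subgroup (GL ι F)}
    (hI : H ≤ isometryGroup F ⇑Q) {t k : ℕ} (hk : 3 ≤ k) (ht : 2 ≤ t)
    (hqk : ¬ (Fintype.card F = 3 ∧ k = 3)) (hW : WreathData (gramQ Q) H t k) :
    ∃ M, InOClassGen (⇑Q) M ∧ H ≤ M := by
  obtain ⟨b, S, c, hc, hS, hSd, hB, hWr⟩ := hW
  have hcard : Fintype.card ι = Fintype.card (Fin t → Fin k) := by
    have h1 := Module.finrank_eq_card_basis b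
    rw [Module.finrank_fintype_fun_eq_card] at h1
    exact h1
  let eι : ι ≃ (Fin t → Fin k) := Fintype.equivOfCardEq hcard
  refine ⟨tensorWreathSubgroup k t eι (basisGL b eι) ⊓ isometryGroup F ⇑Q,
    Or.inr (Or.inr (Or.inr (Or.inr (Or.inr (Or.inr (Or.inr ⟨k, t, eι, basisGL b eι, bf S, hk, ht,
      hqk, isSymmetricForm_bf S hS hSd, ?_, rfl⟩)))))), le_inf ?_ hI⟩
  · refine ⟨c, hc, fun x y => ?_⟩
    rw [polar_eq_bf, bf_basisGL, hB, gramMatrix_bf, Finset.mul_sum]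
    refine Finset.sum_congr rfl fun f _ => ?_
    rw [Finset.mul_sum]
    refine Finset.sum_congr rfl fun g _ => ?_
    rw [Matrix.smul_apply, ptM_apply, smul_eq_mul]
    simp only [id]
    ring
  · intro h hh
    obtain ⟨σ, Us, hσU⟩ := hWr h hh
    refine mem_conj_basisGL (tensorWreathStandard k t F) b eι h
      ⟨facGL k F σ * ptGL Us, ?_, hσU⟩
    exact Subgroup.mul_mem _ (Subgroup.subset_closure (Or.inr ⟨σ, fun x y => rfl⟩))
      (Subgroup.subset_closure (Or.inl ⟨Us, fun x y => rfl⟩))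

end Cfsg.Agent.Lib.Helper5.AschO
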