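import Cfsg.Agent.Lib.Helper5.AschO.Adjoint
import Cfsg.Agent.Lib.Helper8.AschF5

set_option autoImplicit false

/-! The extension-field case: the centre of the commutant is a self-adjoint field (odd
dimension), and a subfield of prime degree different from the dimension is normalised. -/

namespace Cfsg.Agent.Lib.Helper5.AschO

open Module Matrix
open Cfsg Cfsg.Geo Cfsg.Agent.Lib.Helper8.Asch

variable {ι : Type} [Fintype ι] [DecidableEq ι] {F : Type*} [Field F]

/-- `class3_of_ZC_ne` of helper8, remembering that the field lies in the centre of the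
commutant -/
theorem class3_with_le {V : Type*} [AddCommGroup V] [Module F V] [Finite F] [FiniteDimensional F V]
    [Nontrivial V]
    (H : Subgroup (GLV F V)) (A : Subalgebra F (Module.End F V)) (hA : ∀ h ∈ H, Nrm A h)
    [IsSemisimpleModule A V] (hiso : IsIsotypic A V)
    (hne : ∃ z ∈ ZC A, ∀ c : F, z ≠ c • (1 : Module.End F V)) :
    ∃ (r : ℕ) (K : Subalgebra F (Module.End F V)), r.Prime ∧ IsFld K ∧ finrank F K = r ∧
      K ≤ ZC A ∧ ∀ h ∈ H, ∀ x, x ∈ K ↔
        (h : Module.End F V) * x * ((h⁻¹ : GLV F V) : Module.End F V) ∈ K := by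
  have hE : IsFld (ZC A) := isFld_ZC A hiso
  have hd1 : finrank F (ZC A) ≠ 1 := by
    intro h1
    rw [Subalgebra.finrank_eq_one_iff] at h1
    obtain ⟨z, hz, hzc⟩ := hne
    rw [h1, Algebra.mem_bot] at hz
    obtain ⟨c, rfl⟩ := hz
    exact hzc c (Algebra.algebraMap_eq_smul_one c)
  set r := (finrank F (ZC A)).minFac with hr
  have hrp : r.Prime := Nat.minFac_prime hd1
  have hrd : r ∣ finrank F (ZC A) := Nat.minFac_dvd _
  obtain ⟨K, hKE, hKf, hKr, N, hKN⟩ := exists_subfield_of_dvd (ZC A) hE r hrp.pos hrd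
  refine ⟨r, K, hrp, hKf, hKr, hKE, ?_⟩
  have key : ∀ h ∈ H, ∀ x, x ∈ K →
      (h : Module.End F V) * x * ((h⁻¹ : GLV F V) : Module.End F V) ∈ K := by
    intro h hh x hx
    rw [hKN] at hx ⊢
    refine ⟨Nrm_ZC (hA h hh) (Nrm.inv_of_subgroup hA hh) x hx.1, ?_⟩
    rw [Units.conj_pow, hx.2]
  intro h hh x
  refine ⟨key h hh x, fun hx => ?_⟩
  have := key h⁻¹ (H.inv_mem hh) _ hx
  rw [inv_inv] at this
  have e : ((h⁻¹ : GLV F V) : Module.End F V) *
      ((h : Module.End F V) * x * ((h⁻¹ : GLV F V) : Module.End F V)) * (h : Module.End F V) = x := by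
    calc _ = (((h⁻¹ : GLV F V) : Module.End F V) * (h : Module.End F V)) * x *
        (((h⁻¹ : GLV F V) : Module.End F V) * (h : Module.End F V)) := by simp only [mul_assoc]
      _ = x := by rw [val_inv_mul, one_mul, mul_one]
  rwa [e] at this

/-- an adjoint-closed field of endomorphisms consists of self-adjoint elements in odd
dimension -/
theorem selfadj_of_isFld {G : Matrix ι ι F} (hG : G.det ≠ 0) (hs : Gᵀ = G) (h2 : (2 : F) ≠ 0)
    (hodd : Odd (Fintype.card ι)) {E : Subalgebra F (Module.End F (ι → F))} (hE : IsFld E)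
    (hadj : ∀ z ∈ E, adj G z ∈ E) : ∀ z ∈ E, adj G z = z := by
  intro z hz
  by_contra hne
  set y := z - adj G z with hy
  have hyE : y ∈ E := E.sub_mem hz (hadj z hz)
  have hy0 : y ≠ 0 := by
    intro h0
    apply hne
    exact (sub_eq_zero.mp h0).symm
  have hyadj : adj G y = -y := by
    rw [hy, adj_sub hG, adj_adj hG hs, neg_sub]
  obtain ⟨y', _, hyy'⟩ := hE.inv y hyE hy0
  set Y := LinearMap.toMatrix' y with hY
  have hYdet : Y.det ≠ 0 := by
    have h1 : Y * LinearMap.toMatrix' y' = 1 := by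
      rw [hY, ← LinearMap.toMatrix'_mul, hyy', LinearMap.toMatrix'_one]
    intro h0
    have := congrArg Matrix.det h1
    rw [Matrix.det_mul, h0, zero_mul, Matrix.det_one] at this
    exact zero_ne_one this
  have hyY : ∀ u, y u = Y *ᵥ u := fun u => (LinearMap.toMatrix'_mulVec y u).symm
  have h3 : Yᵀ * G = -(G * Y) := by
    apply bf_ext
    intro u v
    have h4 := bf_adj hG y u v
    rw [hyadj, hyY u] at h4
    have h5 : (-y) v = -(Y *ᵥ v) := by
      rw [LinearMap.neg_apply, hyY]
    rw [h5, bf_neg_right, bf_mulVec_left, bf_mulVec_right] at h4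
    rw [h4]
    have := bf_smul_mat (G * Y) (-1) u v
    rw [neg_one_smul, neg_one_mul] at this
    exact this.symm
  set M := G * Y with hM
  have hMt : Mᵀ = -M := by
    rw [hM, Matrix.transpose_mul, hs, h3]
  have hskew : ∀ a b, M a b + M b a = 0 := by
    intro a b
    have := congrFun (congrFun hMt a) b
    rw [Matrix.transpose_apply, Matrix.neg_apply] at this
    rw [this, add_neg_cancel]
  have hdiag : ∀ a, M a a = 0 := by
    intro a
    have := hskew a a
    rw [← two_mul] at this
    rcases mul_eq_zero.mp this with h | h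
    · exact absurd h h2
    · exact h
  have h0 := det_alt_odd M hskew hdiag hodd
  rw [hM, Matrix.det_mul] at h0
  rcases mul_eq_zero.mp h0 with h | h
  · exact hG h
  · exact hYdet h

/-- a self-adjoint field of full degree in the commutant forces the group to be scalar -/
theorem scalars_of_full_degree [Nonempty ι] {G : Matrix ι ι F} (hG : G.det ≠ 0)
    {N : Subgroup (GL ι F)} (hN : OHyp G N) {K : Subalgebra F (Module.End F (ι → F))}
    (hK : IsFld K) (hKC : K ≤ Cmt (algOf (HV N))) (hdeg : finrank F K = Fintype.card ι)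
    (hsa : ∀ z ∈ K, adj G z = z) : N ≤ scalars ι F := by
  obtain ⟨i₀⟩ := (inferInstance : Nonempty ι)
  set v₀ : ι → F := Pi.single i₀ 1 with hv₀
  have hv0 : v₀ ≠ 0 := by
    intro h0
    have := congrFun h0 i₀
    rw [hv₀, Pi.single_eq_same, Pi.zero_apply] at this
    exact one_ne_zero this
  let φ : K →ₗ[F] (ι → F) :=
    { toFun := fun k => k.1 v₀
      map_add' := fun a b => rfl
      map_smul' := fun c a => rfl }
  have hφinj : Function.Injective φ := by
    have hiff : Function.Injective φ ↔ ∀ a, φ a = 0 → a = 0 := injective_iff_map_eq_zero φ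
    rw [hiff]
    intro k hk
    by_contra hk0
    have hk0' : k.1 ≠ 0 := fun h => hk0 (Subtype.ext h)
    obtain ⟨k', hk', hkk'⟩ := hK.inv k.1 k.2 hk0'
    have hcomm := hK.comm k.1 k.2 k' hk'
    have h1 : (k' * k.1) v₀ = v₀ := by rw [← hcomm, hkk']; rfl
    have h2 : (k' * k.1) v₀ = k' (k.1 v₀) := rfl
    have h3 : k.1 v₀ = 0 := hk
    rw [h2, h3, map_zero] at h1
    exact hv0 h1.symm
  have hφsurj : Function.Surjective φ := by
    have hfr : finrank F K = finrank F (ι → F) := by
      rw [hdeg, Module.finrank_fintype_fun_eq_card]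
    have h1 := LinearMap.finrank_range_of_inj hφinj
    rw [← LinearMap.range_eq_top]
    apply Submodule.eq_top_of_finrank_eq
    rw [h1, hfr]
  intro x hx
  set X : Module.End F (ι → F) := ((toV x : GLV F (ι → F)) : Module.End F (ι → F)) with hX
  have hXA : X ∈ algOf (HV N) := mem_algOf (mem_HV hx)
  obtain ⟨k₀, hk₀⟩ := hφsurj (X v₀)
  have hXk : X = k₀.1 := by
    apply LinearMap.ext
    intro w
    obtain ⟨k, rfl⟩ := hφsurj w
    show X (k.1 v₀) = k₀.1 (k.1 v₀)
    have h1 : X * k.1 = k.1 * X := mem_Cmt.mp (hKC k.2) X hXA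
    have h2 : X (k.1 v₀) = (X * k.1) v₀ := rfl
    rw [h2, h1]
    show k.1 (X v₀) = _
    have h3 : X v₀ = k₀.1 v₀ := hk₀.symm
    rw [h3]
    have h4 := hK.comm k.1 k.2 k₀.1 k₀.2
    have h5 : k.1 (k₀.1 v₀) = (k.1 * k₀.1) v₀ := rfl
    rw [h5, h4]
    rfl
  have hXK : X ∈ K := by rw [hXk]; exact k₀.2
  have hXX : X * X = 1 := by
    have h1 := hsa X hXK
    rw [hX, adj_toV hG hN hx] at h1
    rw [hX]
    nth_rewrite 1 [← h1]
    rw [← Units.val_mul, ← map_mul, inv_mul_cancel, map_one, Units.val_one]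
  have hcases : X = 1 ∨ X = -1 := by
    by_cases h1 : X - 1 = 0
    · left; exact sub_eq_zero.mp h1
    · right
      obtain ⟨y, hy, hyy⟩ := hK.inv (X - 1) (K.sub_mem hXK K.one_mem) h1
      have hc := hK.comm (X - 1) (K.sub_mem hXK K.one_mem) y hy
      have h3 : (X - 1) * (X + 1) = 0 := by
        rw [sub_mul, mul_add, mul_add, hXX, mul_one, one_mul, one_mul]
        abel
      have h4 : X + 1 = 0 := by
        calc X + 1 = (y * (X - 1)) * (X + 1) := by rw [← hc, hyy, one_mul]
          _ = y * ((X - 1) * (X + 1)) := by rw [mul_assoc]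
          _ = 0 := by rw [h3, mul_zero]
      exact eq_neg_of_add_eq_zero_left h4
  rw [mem_scalars_iff]
  rcases hcases with h1 | h1
  · refine ⟨1, ?_⟩
    rw [Units.val_one, one_smul]
    apply Matrix.toLin'.injective
    rw [← toV_val, ← hX, h1, Matrix.toLin'_one]
    rfl
  · refine ⟨-1, ?_⟩
    rw [Units.val_neg, Units.val_one, neg_one_smul]
    apply Matrix.toLin'.injective
    rw [← toV_val, ← hX, h1, map_neg, Matrix.toLin'_one]
    rfl

end Cfsg.Agent.Lib.Helper5.AschO
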