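import Mathlib
import Cfsg.Agent.Lib.Helper5.AschO.Classes
import Cfsg.Agent.Lib.Helper5.AschO.Field

set_option autoImplicit false

/-! The field-extension case (class 3). -/

namespace Cfsg.Agent.Lib.Helper5.AschO

open Module Matrix QuadraticMap
open Cfsg Cfsg.Geo Cfsg.Agent.Lib.Helper8.Asch

variable {ι : Type} [Fintype ι] [DecidableEq ι] {F : Type*} [Field F]

/-- class 3 from a self-adjoint normalised field of endomorphisms -/
theorem class3_matrix [Fintype F] (Q : QuadraticForm F (ι → F)) (hGdet : (gramQ Q).det ≠ 0)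
    {H : Subgroup (GL ι F)} (hI : H ≤ isometryGroup F ⇑Q) {r : ℕ}
    {K : Subalgebra F (Module.End F (ι → F))} (hr : r.Prime) (hne : Fintype.card ι ≠ r)
    (hK : IsFld K) (hfr : finrank F K = r)
    (hsa : ∀ z ∈ K, adj (gramQ Q) z = z)
    (hnorm : ∀ h ∈ HV H, ∀ x, x ∈ K ↔
      (h : Module.End F (ι → F)) * x *
        ((h⁻¹ : GLV F (ι → F)) : Module.End F (ι → F)) ∈ K) :
    ∃ M, InOClassGen (⇑Q) M ∧ H ≤ M := by
  let φ : Module.End F (ι → F) ≃ₐ[F] Matrix ι ι F := LinearMap.toMatrixAlgEquiv'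
  let K' : Subalgebra F (Matrix ι ι F) := K.map (φ : _ →ₐ[F] _)
  have hmem : ∀ x : Matrix ι ι F, x ∈ K' ↔ Matrix.toLin' x ∈ K := by
    intro x
    constructor
    · rintro ⟨y, hy, rfl⟩
      have : Matrix.toLin' (φ y) = y := Matrix.toLin'_toMatrix' y
      show Matrix.toLin' (φ y) ∈ K
      rw [this]
      exact hy
    · intro hx
      exact ⟨Matrix.toLin' x, hx, LinearMap.toMatrix'_toLin' x⟩
  refine cls3 hI (K := K') hr hne ⟨?_, ?_, ?_⟩ ?_ ?_
  · intro x hx y hy
    rw [hmem] at hx hy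
    have := hK.comm _ hx _ hy
    have e : ∀ a b : Matrix ι ι F,
        Matrix.toLin' (a * b) = Matrix.toLin' a * Matrix.toLin' b :=
      fun a b => Matrix.toLin'_mul a b
    rw [← e, ← e] at this
    exact Matrix.toLin'.injective this
  · intro x hx hx0
    rw [hmem] at hx
    have h0 : Matrix.toLin' x ≠ 0 := by
      intro h0
      apply hx0
      apply Matrix.toLin'.injective
      rw [h0, map_zero]
    obtain ⟨y, hy, hxy⟩ := hK.inv _ hx h0
    refine ⟨φ y, ⟨y, hy, rfl⟩, ?_⟩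
    apply Matrix.toLin'.injective
    have e : ∀ a b : Matrix ι ι F,
        Matrix.toLin' (a * b) = Matrix.toLin' a * Matrix.toLin' b :=
      fun a b => Matrix.toLin'_mul a b
    rw [e, Matrix.toLin'_one]
    have : Matrix.toLin' (φ y) = y := Matrix.toLin'_toMatrix' y
    rw [this]
    exact hxy
  · rw [← hfr]
    exact (AlgEquiv.subalgebraMap φ K).toLinearEquiv.finrank_eq.symm
  · intro k hk u v
    rw [hmem] at hk
    rw [polar_eq_bf, polar_eq_bf]
    have h1 := bf_adj hGdet (Matrix.toLin' k) u v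
    rw [hsa _ hk, Matrix.toLin'_apply, Matrix.toLin'_apply] at h1
    exact h1
  · intro g hg k
    rw [hmem, hmem]
    have := hnorm (toV g) (mem_HV hg) (Matrix.toLin' k)
    rw [this]
    have e : ((toV g : GLV F (ι → F)) : Module.End F (ι → F)) * Matrix.toLin' k *
        (((toV g)⁻¹ : GLV F (ι → F)) : Module.End F (ι → F)) =
        Matrix.toLin' ((g : Matrix ι ι F) * k *
          ((g⁻¹ : GL ι F) : Matrix ι ι F)) := by
      have e' : ∀ a b : Matrix ι ι F,
          Matrix.toLin' (a * b) = Matrix.toLin' a * Matrix.toLin' b :=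
        fun a b => Matrix.toLin'_mul a b
      rw [← map_inv, toV_val, toV_val, e', e']
    rw [e]

/-- the field-extension case -/
theorem field_case [Fintype F] [Nonempty ι] (Q : QuadraticForm F (ι → F)) (h2 : (2 : F) ≠ 0)
    (hodd : Odd (Fintype.card ι)) (hGdet : (gramQ Q).det ≠ 0)
    {H N : Subgroup (GL ι F)} (hH : OHyp (gramQ Q) H) (hI : H ≤ isometryGroup F ⇑Q)
    (hNH : N ≤ H) (hNZ : ¬ N ≤ scalars ι F)
    (hA : ∀ u ∈ HV H, Nrm (algOf (HV N)) u)
    [IsSemisimpleModule (algOf (HV N)) (ι → F)]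
    (hiso : IsIsotypic (algOf (HV N)) (ι → F))
    (hne : ∃ z ∈ ZC (algOf (HV N)), ∀ c : F, z ≠ c • (1 : Module.End F (ι → F))) :
    ∃ M, InOClassGen (⇑Q) M ∧ H ≤ M := by
  set A := algOf (HV N) with hAdef
  have hs := gramQ_symm Q
  obtain ⟨r, K, hr, hK, hfr, hKZ, hnorm⟩ := class3_with_le (HV H) A hA hiso hne
  have hadjA := adj_mem_algOf hGdet (hH.mono hNH)
  have hsaZ : ∀ z ∈ ZC A, adj (gramQ Q) z = z :=
    selfadj_of_isFld hGdet hs h2 hodd (isFld_ZC A hiso) (adj_mem_ZC hGdet hs hadjA)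
  have hsaK : ∀ z ∈ K, adj (gramQ Q) z = z := fun z hz => hsaZ z (hKZ hz)
  have hZC : ZC A ≤ Cmt A := inf_le_left
  have hrn : Fintype.card ι ≠ r := by
    intro heq
    apply hNZ
    exact scalars_of_full_degree hGdet (hH.mono hNH) hK (hKZ.trans hZC)
      (by rw [hfr, heq]) hsaK
  exact class3_matrix Q hGdet hI hr hrn hK hfr hsaK hnorm

end Cfsg.Agent.Lib.Helper5.AschO
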