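import Cfsg.Agent.Lib.Helper5.AschO.Decomp

set_option autoImplicit false

/-! The non-isotypic case: an orthogonal decomposition permuted transitively. -/

namespace Cfsg.Agent.Lib.Helper5.AschO

open Module Matrix QuadraticMap
open Cfsg Cfsg.Geo Cfsg.Agent.Lib.Helper8.Asch

variable {ι : Type} [Fintype ι] [DecidableEq ι] {F : Type*} [Field F]

theorem decomp_of_not_isotypic [Nonempty ι] {G : Matrix ι ι F} (hG : G.det ≠ 0) (hs : Gᵀ = G)
    (hodd : Odd (Fintype.card ι)) {H N : Subgroup (GL ι F)} (hH : OHyp G H)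
    (hirr : Irr (HV H)) (hNH : N ≤ H) (hinv : ∀ h ∈ H, ∀ x ∈ N, h * x * h⁻¹ ∈ N)
    (hnot : ¬ IsIsotypic (algOf (HV N)) (ι → F)) :
    ∃ (t k : ℕ) (D : Fin t → Submodule F (ι → F)), IsMDecomposition k D ∧
      (∀ i, IsNondegenerateOn (bf G) (D i)) ∧
      (∀ i j, i ≠ j → AreOrthogonalFor (bf G) (D i) (D j)) ∧
      H ≤ decompositionStabilizer D ∧
      (∀ i j, ∃ h ∈ H, (D i).map (Matrix.toLin' (h : Matrix ι ι F)) = D j) := by
  have hA : ∀ u ∈ HV H, Nrm (algOf (HV N)) u := Nrm_algOf_HV hinv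
  obtain ⟨t, k, D, ht, hk, hfr, hind, hsup, hperm, htrans, hDA, hDC, hgen⟩ :=
    clifford_components (HV H) hirr (algOf (HV N)) hA hnot
  set A := algOf (HV N) with hAdef
  set S : Set (Module.End F (ι → F)) := (A : Set (Module.End F (ι → F))) ∪ (Cmt A : Set _) with hS
  have hadjA : ∀ a ∈ A, adj G a ∈ A := adj_mem_algOf hG (hH.mono hNH)
  have hcd : CompData G k D S :=
    { det := hG
      symm := hs
      pos := hk
      finrank_eq := hfr
      indep := hind
      sup := hsup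
      adjS := by
        rintro a (ha | ha)
        · exact Or.inl (hadjA a ha)
        · exact Or.inr (adj_mem_Cmt hG hs hadjA a ha)
      inv := by
        rintro i a (ha | ha) w hw
        · exact hDA i a ha w hw
        · exact hDC i a ha w hw
      gen := by
        intro R hR
        exact hgen R (fun a ha w hw => hR a (Or.inl ha) w hw) (fun c hc w hw => hR c (Or.inr hc) w hw) }
  set K : Set (Module.End F (ι → F)) := {g | ∃ h ∈ H, g = Matrix.toLin' (h : Matrix ι ι F)} with hK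
  have hKp : ∀ g ∈ K, (∀ u v, bf G (g u) (g v) = bf G u v) ∧
      ∃ σ : Equiv.Perm (Fin t), ∀ i, (D i).map g = D (σ i) := by
    rintro g ⟨h, hh, rfl⟩
    refine ⟨fun u v => ?_, ?_⟩
    · rw [Matrix.toLin'_apply, Matrix.toLin'_apply]
      exact hH.bf_eq hh u v
    · obtain ⟨σ, hσ⟩ := hperm (toV h) (mem_HV hh)
      exact ⟨σ, fun i => by rw [← hσ i, toV_val]⟩
  have htr : ∀ i j, ∃ h ∈ H, (D i).map (Matrix.toLin' (h : Matrix ι ι F)) = D j := by
    intro i j
    obtain ⟨u, hu, huij⟩ := htrans i j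
    obtain ⟨h, hh, rfl⟩ := exists_of_mem_HV hu
    exact ⟨h, hh, by rw [← huij, toV_val]⟩
  have htrK : ∀ i j, ∃ g ∈ K, (D i).map g = D j := by
    intro i j
    obtain ⟨h, hh, hij⟩ := htr i j
    exact ⟨_, ⟨h, hh, rfl⟩, hij⟩
  have hp : ∀ i, hcd.partner i = i := hcd.partner_self hodd K hKp htrK
  refine ⟨t, k, D, ⟨ht, hk, hfr, hind, hsup⟩, hcd.nondegenerate_of_partner_self hp,
    hcd.orthogonal_of_partner_self hp, ?_, htr⟩
  intro g hg
  obtain ⟨σ, hσ⟩ := hperm (toV g) (mem_HV hg)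
  exact ⟨σ, fun i => by rw [← hσ i, toV_val]⟩

/-- translation to the frozen vocabulary for a quadratic form -/
theorem orthDecomp_of_data (Q : QuadraticForm F (ι → F)) (h2 : (2 : F) ≠ 0)
    {H : Subgroup (GL ι F)} (hH : OHyp (gramQ Q) H) {t k : ℕ} {D : Fin t → Submodule F (ι → F)}
    (hD : IsMDecomposition k D) (hnd : ∀ i, IsNondegenerateOn (bf (gramQ Q)) (D i))
    (horth : ∀ i j, i ≠ j → AreOrthogonalFor (bf (gramQ Q)) (D i) (D j))
    (htr : ∀ i j, ∃ h ∈ H, (D i).map (Matrix.toLin' (h : Matrix ι ι F)) = D j) :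
    IsOrthogonalMDecomposition ⇑Q k D := by
  have hpolar : polar ⇑Q = bf (gramQ Q) := by
    funext u v
    exact polar_eq_bf Q u v
  refine ⟨⟨hD, ?_, ?_⟩, ?_⟩
  · rw [hpolar]; exact hnd
  · rw [hpolar]; exact horth
  · intro i j
    obtain ⟨h, hh, hij⟩ := htr i j
    have hinj : Function.Injective (Matrix.toLin' (h : Matrix ι ι F)) := by
      intro x y hxy
      have := congrArg (fun z => ((h⁻¹ : GL ι F) : Matrix ι ι F) *ᵥ z) hxy
      simp only [Matrix.toLin'_apply, Matrix.mulVec_mulVec, ← Units.val_mul, inv_mul_cancel,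
        Units.val_one, Matrix.one_mulVec] at this
      exact this
    let e : D i ≃ₗ[F] D j :=
      (Submodule.equivMapOfInjective _ hinj (D i)).trans (LinearEquiv.ofEq _ _ hij)
    refine ⟨e, fun w => ?_⟩
    show Q ((h : Matrix ι ι F) *ᵥ (w : ι → F)) = Q (w : ι → F)
    exact ((isom_iff_gram Q h2 _).mpr (hH.isom h hh)) w

end Cfsg.Agent.Lib.Helper5.AschO
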