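import Cfsg.Agent.Lib.Helper8.AschF2
import Cfsg.Agent.Lib.Helper5.SpinorHyp2

set_option autoImplicit false

/-! Aschbacher's theorem for the odd-dimensional orthogonal groups: basic vocabulary.
Bilinear forms given by Gram matrices, the Gram matrix of a quadratic form, isometries. -/

namespace Cfsg.Agent.Lib.Helper5.AschO

open Module Matrix QuadraticMap
open Cfsg Cfsg.Geo Cfsg.Agent.Lib.Helper8.Asch

variable {ι : Type} [Fintype ι] [DecidableEq ι] {F : Type*} [Field F]

/-- the bilinear form with matrix `G` -/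
def bf (G : Matrix ι ι F) (u v : ι → F) : F := u ⬝ᵥ (G *ᵥ v)

theorem gf_id (G : Matrix ι ι F) (u v : ι → F) : gf (RingHom.id F) G u v = bf G u v := rfl

theorem bf_add_left (G : Matrix ι ι F) (x y v : ι → F) : bf G (x + y) v = bf G x v + bf G y v :=
  add_dotProduct _ _ _

theorem bf_smul_left (G : Matrix ι ι F) (c : F) (x v : ι → F) : bf G (c • x) v = c * bf G x v := by
  unfold bf
  rw [smul_dotProduct, smul_eq_mul]

theorem bf_add_right (G : Matrix ι ι F) (v x y : ι → F) : bf G v (x + y) = bf G v x + bf G v y := by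
  unfold bf
  rw [mulVec_add, dotProduct_add]

theorem bf_smul_right (G : Matrix ι ι F) (c : F) (v x : ι → F) : bf G v (c • x) = c * bf G v x := by
  unfold bf
  rw [mulVec_smul, dotProduct_smul, smul_eq_mul]

theorem bf_zero_left (G : Matrix ι ι F) (v : ι → F) : bf G 0 v = 0 := by
  unfold bf
  rw [zero_dotProduct]

theorem bf_zero_right (G : Matrix ι ι F) (v : ι → F) : bf G v 0 = 0 := by
  unfold bf
  rw [mulVec_zero, dotProduct_zero]

theorem bf_neg_left (G : Matrix ι ι F) (x v : ι → F) : bf G (-x) v = - bf G x v := by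
  unfold bf
  rw [neg_dotProduct]

theorem bf_neg_right (G : Matrix ι ι F) (x v : ι → F) : bf G x (-v) = - bf G x v := by
  unfold bf
  rw [mulVec_neg, dotProduct_neg]

theorem bf_sub_left (G : Matrix ι ι F) (x y v : ι → F) : bf G (x - y) v = bf G x v - bf G y v := by
  rw [sub_eq_add_neg, bf_add_left, bf_neg_left, ← sub_eq_add_neg]

theorem bf_sub_right (G : Matrix ι ι F) (v x y : ι → F) : bf G v (x - y) = bf G v x - bf G v y := by
  rw [sub_eq_add_neg, bf_add_right, bf_neg_right, ← sub_eq_add_neg]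

theorem bf_sum_left {α : Type*} (s : Finset α) (G : Matrix ι ι F) (x : α → ι → F) (v : ι → F) :
    bf G (∑ a ∈ s, x a) v = ∑ a ∈ s, bf G (x a) v := by
  unfold bf
  rw [sum_dotProduct]

theorem bf_sum_right {α : Type*} (s : Finset α) (G : Matrix ι ι F) (v : ι → F) (x : α → ι → F) :
    bf G v (∑ a ∈ s, x a) = ∑ a ∈ s, bf G v (x a) := by
  unfold bf
  rw [mulVec_sum, dotProduct_sum]

theorem bf_mulVec_left (G M : Matrix ι ι F) (u v : ι → F) : bf G (M *ᵥ u) v = bf (Mᵀ * G) u v := by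
  unfold bf
  rw [mulVec_dotProduct', mulVec_mulVec]

theorem bf_mulVec_right (G M : Matrix ι ι F) (u v : ι → F) : bf G u (M *ᵥ v) = bf (G * M) u v := by
  unfold bf
  rw [mulVec_mulVec]

theorem bf_mulVec (G h : Matrix ι ι F) (u v : ι → F) :
    bf G (h *ᵥ u) (h *ᵥ v) = bf (hᵀ * G * h) u v := by
  rw [bf_mulVec_left, bf_mulVec_right]

theorem bf_single (G : Matrix ι ι F) (a b : ι) : bf G (Pi.single a 1) (Pi.single b 1) = G a b := by
  rw [← gf_id, gf_single]

theorem bf_ext {G G' : Matrix ι ι F} (h : ∀ u v, bf G u v = bf G' u v) : G = G' := by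
  ext a b
  rw [← bf_single G, ← bf_single G', h]

theorem bf_smul_mat (G : Matrix ι ι F) (c : F) (u v : ι → F) : bf (c • G) u v = c * bf G u v := by
  rw [← gf_id, gf_smul_mat, gf_id]

theorem bf_symm {G : Matrix ι ι F} (hG : Gᵀ = G) (u v : ι → F) : bf G u v = bf G v u := by
  have := gf_transpose G u v
  rw [hG, gf_id, gf_id] at this
  exact this

theorem bf_eq_zero_of_det {G : Matrix ι ι F} (hG : G.det ≠ 0) {v : ι → F}
    (h : ∀ u, bf G u v = 0) : v = 0 := by
  by_contra hv
  obtain ⟨⟨x, hx⟩, _⟩ := gf_nondeg (RingHom.id F) (fun _ _ h => h) G hG v hv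
  exact hx (h x)

theorem bf_eq_zero_of_det' {G : Matrix ι ι F} (hG : G.det ≠ 0) {v : ι → F}
    (h : ∀ u, bf G v u = 0) : v = 0 := by
  by_contra hv
  obtain ⟨_, ⟨x, hx⟩⟩ := gf_nondeg (RingHom.id F) (fun _ _ h => h) G hG v hv
  exact hx (h x)

/-! ### the Gram matrix of a quadratic form -/

/-- the Gram matrix of the polar form of `Q` -/
def gramQ (Q : QuadraticForm F (ι → F)) : Matrix ι ι F := gramMatrix (polar Q)

theorem polar_eq_bf (Q : QuadraticForm F (ι → F)) (u v : ι → F) :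
    polar Q u v = bf (gramQ Q) u v := by
  rw [← gf_id]
  exact eq_gf (RingHom.id F) (polar Q) (fun x y v => polar_add_left Q x y v)
    (fun c x v => by rw [polar_smul_left, smul_eq_mul])
    (fun v x y => polar_add_right Q v x y)
    (fun c v x => by rw [polar_smul_right, smul_eq_mul]; rfl) u v

theorem gramQ_symm (Q : QuadraticForm F (ι → F)) : (gramQ Q)ᵀ = gramQ Q := by
  ext a b
  show polar Q _ _ = polar Q _ _
  exact polar_comm Q _ _

theorem gramQ_det (Q : QuadraticForm F (ι → F)) (hQ : (polarBilin Q).Nondegenerate) :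
    (gramQ Q).det ≠ 0 := by
  apply det_ne_zero_of_nondeg (RingHom.id F) (fun x => ⟨x, rfl⟩)
  intro v hv
  have h1 : ∃ x, polar Q x v ≠ 0 := by
    by_contra hcon
    push Not at hcon
    exact hv (hQ.2 v (fun x => by simpa using hcon x))
  obtain ⟨x, hx⟩ := h1
  refine ⟨⟨x, ?_⟩, ⟨x, ?_⟩⟩
  · rw [gf_id, ← polar_eq_bf]; exact hx
  · rw [gf_id, ← polar_eq_bf, polar_comm]; exact hx

theorem two_mul_Q (Q : QuadraticForm F (ι → F)) (v : ι → F) : 2 * Q v = bf (gramQ Q) v v := by
  rw [← polar_eq_bf, polar_self, two_nsmul, two_mul]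

theorem Q_eq_half (Q : QuadraticForm F (ι → F)) (h2 : (2 : F) ≠ 0) (v : ι → F) :
    Q v = 2⁻¹ * bf (gramQ Q) v v := by
  rw [← two_mul_Q, ← mul_assoc, inv_mul_cancel₀ h2, one_mul]

theorem isom_iff_gram (Q : QuadraticForm F (ι → F)) (h2 : (2 : F) ≠ 0) (g : Matrix ι ι F) :
    (∀ v, Q (g *ᵥ v) = Q v) ↔ gᵀ * gramQ Q * g = gramQ Q := by
  constructor
  · intro h
    apply bf_ext
    intro u v
    rw [← bf_mulVec, ← polar_eq_bf, ← polar_eq_bf]
    unfold polar
    rw [← mulVec_add, h, h, h]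
  · intro h v
    rw [Q_eq_half Q h2, Q_eq_half Q h2, bf_mulVec, h]

end Cfsg.Agent.Lib.Helper5.AschO
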