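import Cfsg.Agent.Lib.Helper5.AschO.Subfield
import Cfsg.Agent.Lib.Helper5.AschO.Basic
import Cfsg.Agent.Lib.Helper8.AschR2

set_option autoImplicit false

/-! Descent of a symmetric form to a subfield over which the group is realised. -/

namespace Cfsg.Agent.Lib.Helper5.AschO

open Module Matrix
open Cfsg Cfsg.Geo Cfsg.Agent.Lib.Helper8.Asch

variable {ι : Type} [Fintype ι] [DecidableEq ι] {F : Type*} [Field F]

/-- a retraction of `F` onto the subfield `K`, as an additive map of `F` -/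
theorem exists_retrF (K : Subfield F) : ∃ Lf : F →+ F, (∀ z, Lf z ∈ K) ∧
    (∀ c ∈ K, ∀ z, Lf (c * z) = c * Lf z) ∧ (∀ c ∈ K, Lf c = c) := by
  obtain ⟨l, hl⟩ := exists_retr K
  refine ⟨(K.subtype : K →+* F).toAddMonoidHom.comp l.toAddMonoidHom, ?_, ?_, ?_⟩
  · intro z
    exact (l z).2
  · intro c hc z
    have : c * z = (⟨c, hc⟩ : K) • z := rfl
    show ((l (c * z) : K) : F) = c * ((l z : K) : F)
    rw [this, map_smul]
    rfl
  · intro c hc
    show ((l c : K) : F) = c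
    have := hl ⟨c, hc⟩
    simp only at this
    rw [this]

theorem map_mul_mul_of_mem (K : Subfield F) (Lf : F →+ F)
    (hL : ∀ c ∈ K, ∀ z, Lf (c * z) = c * Lf z) (X M Y : Matrix ι ι F)
    (hX : ∀ i j, X i j ∈ K) (hY : ∀ i j, Y i j ∈ K) :
    (X * M * Y).map Lf = X * M.map Lf * Y := by
  ext i j
  simp only [Matrix.mul_apply, Matrix.map_apply, map_sum]
  refine Finset.sum_congr rfl fun l _ => ?_
  rw [mul_comm, hL _ (hY l j), map_sum, mul_comm]
  congr 1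
  refine Finset.sum_congr rfl fun k _ => ?_
  rw [hL _ (hX i k)]

theorem det_mem_of_entries (K : Subfield F) (M : Matrix ι ι F) (hM : ∀ i j, M i j ∈ K) :
    M.det ∈ K := by
  rw [Matrix.det_apply]
  refine K.sum_mem fun σ _ => ?_
  rw [Units.smul_def]
  exact K.zsmul_mem (K.prod_mem fun i _ => hM _ _) _

theorem star_id_gen (X : Matrix ι ι F) :
    Cfsg.Agent.Lib.Helper8.Asch.star (RingHom.id F) X = Xᵀ := by
  ext i j
  simp [Cfsg.Agent.Lib.Helper8.Asch.star]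

/-- the form descends, up to a scalar whose square times the discrepancy lies in `K` -/
theorem form_descent [Nonempty ι] (hodd : Odd (Fintype.card ι))
    (G : Matrix ι ι F) (hGdet : G.det ≠ 0) (K : Subfield F) (hGK : G.det ∈ K)
    (N : Subgroup (GL ι F)) (hspan : Submodule.span F (mset N) = ⊤)
    (hN : ∀ x ∈ N, (x : Matrix ι ι F)ᵀ * G * (x : Matrix ι ι F) = G)
    (B : GL ι F)
    (hB : ∀ x ∈ N, ∀ i j, ((B * x * B⁻¹ : GL ι F) : Matrix ι ι F) i j ∈ K) :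
    ∃ μ : F, μ ≠ 0 ∧ ∀ i j, (μ ^ 2 • (((B⁻¹ : GL ι F) : Matrix ι ι F)ᵀ * G *
      ((B⁻¹ : GL ι F) : Matrix ι ι F))) i j ∈ K := by
  classical
  obtain ⟨Lf, hLK, hL, hLid⟩ := exists_retrF K
  set Bm : Matrix ι ι F := (B : Matrix ι ι F) with hBm
  set Bi : Matrix ι ι F := ((B⁻¹ : GL ι F) : Matrix ι ι F) with hBi
  have e1 : Bi * Bm = 1 := by
    rw [hBi, hBm, ← Units.val_mul, inv_mul_cancel, Units.val_one]
  have e2 : Bm * Bi = 1 := by
    rw [hBi, hBm, ← Units.val_mul, mul_inv_cancel, Units.val_one]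
  have e1t : Bmᵀ * Biᵀ = 1 := by rw [← Matrix.transpose_mul, e1, Matrix.transpose_one]
  have e2t : Biᵀ * Bmᵀ = 1 := by rw [← Matrix.transpose_mul, e2, Matrix.transpose_one]
  have hdetB : Bm.det * Bi.det = 1 := by rw [← Matrix.det_mul, e2, Matrix.det_one]
  have hdetBm : Bm.det ≠ 0 := left_ne_zero_of_mul_eq_one hdetB
  have hdetBi : Bi.det ≠ 0 := right_ne_zero_of_mul_eq_one hdetB
  set B' : Matrix ι ι F := Biᵀ * G * Bi with hB'
  have hB'det : B'.det = Bi.det ^ 2 * G.det := by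
    rw [hB', Matrix.det_mul, Matrix.det_mul, Matrix.det_transpose]
    ring
  have hB'ne : B'.det ≠ 0 := by
    rw [hB'det]
    exact mul_ne_zero (pow_ne_zero _ hdetBi) hGdet
  obtain ⟨i₀, j₀, ha⟩ : ∃ i₀ j₀, B' i₀ j₀ ≠ 0 := by
    by_contra hcon
    push_neg at hcon
    apply hB'ne
    have : B' = 0 := by
      ext i j
      exact hcon i j
    rw [this, Matrix.det_zero]
  set a : F := B' i₀ j₀ with haDef
  set B'' : Matrix ι ι F := a⁻¹ • B' with hB''
  set B₀ : Matrix ι ι F := B''.map Lf with hB₀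
  have hB₀K : ∀ i j, B₀ i j ∈ K := fun i j => hLK _
  -- conjugates have entries in `K`
  have hy : ∀ x ∈ N, ∀ i j, (Bm * (x : Matrix ι ι F) * Bi) i j ∈ K := by
    intro x hx i j
    have := hB x hx i j
    rw [Units.val_mul, Units.val_mul] at this
    exact this
  have hinv'' : ∀ x ∈ N, (Bm * (x : Matrix ι ι F) * Bi)ᵀ * B'' *
      (Bm * (x : Matrix ι ι F) * Bi) = B'' := by
    intro x hx
    have h1 := hN x hx
    rw [hB'', Matrix.mul_smul, Matrix.smul_mul]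
    congr 1
    rw [hB', Matrix.transpose_mul, Matrix.transpose_mul]
    calc Biᵀ * ((x : Matrix ι ι F)ᵀ * Bmᵀ) * (Biᵀ * G * Bi) * (Bm * (x : Matrix ι ι F) * Bi)
        = Biᵀ * (x : Matrix ι ι F)ᵀ * (Bmᵀ * Biᵀ) * G * (Bi * Bm) * (x : Matrix ι ι F) * Bi := by
          simp only [Matrix.mul_assoc]
      _ = Biᵀ * ((x : Matrix ι ι F)ᵀ * G * (x : Matrix ι ι F)) * Bi := by
          rw [e1t, e1]
          simp only [Matrix.mul_assoc, Matrix.mul_one, Matrix.one_mul]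
      _ = Biᵀ * G * Bi := by rw [h1]
  have hinv₀ : ∀ x ∈ N, (Bm * (x : Matrix ι ι F) * Bi)ᵀ * B₀ *
      (Bm * (x : Matrix ι ι F) * Bi) = B₀ := by
    intro x hx
    have := map_mul_mul_of_mem K Lf hL (Bm * (x : Matrix ι ι F) * Bi)ᵀ B''
      (Bm * (x : Matrix ι ι F) * Bi) (fun i j => hy x hx j i) (hy x hx)
    rw [hB₀, ← this, hinv'' x hx]
  -- the pulled back form is invariant under `N`
  have hFI : FInv (RingHom.id F) (N : Set (GL ι F)) (Bmᵀ * B₀ * Bm) := by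
    intro x hx
    rw [star_id_gen]
    have h1 := hinv₀ x hx
    calc (x : Matrix ι ι F)ᵀ * (Bmᵀ * B₀ * Bm) * (x : Matrix ι ι F)
        = Bmᵀ * ((Bm * (x : Matrix ι ι F) * Bi)ᵀ * B₀ * (Bm * (x : Matrix ι ι F) * Bi)) * Bm := by
          rw [Matrix.transpose_mul, Matrix.transpose_mul]
          calc (x : Matrix ι ι F)ᵀ * (Bmᵀ * B₀ * Bm) * (x : Matrix ι ι F)
              = (Bmᵀ * Biᵀ) * (x : Matrix ι ι F)ᵀ * Bmᵀ * B₀ * Bm * (x : Matrix ι ι F) *
                  (Bi * Bm) := by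
                rw [e1t, e1]
                simp only [Matrix.mul_assoc, Matrix.mul_one, Matrix.one_mul]
            _ = _ := by simp only [Matrix.mul_assoc]
      _ = Bmᵀ * B₀ * Bm := by rw [h1]
  have hFG : FInv (RingHom.id F) (N : Set (GL ι F))
      ((Matrix.GeneralLinearGroup.mkOfDetNeZero G hGdet : GL ι F) : Matrix ι ι F) := by
    intro x hx
    rw [star_id_gen]
    exact hN x hx
  obtain ⟨c, hc⟩ := FInv_unique (RingHom.id F) hspan
    (Matrix.GeneralLinearGroup.mkOfDetNeZero G hGdet) hFG hFI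
  have hc' : Bmᵀ * B₀ * Bm = c • G := hc
  have hB₀eq : B₀ = c • B' := by
    calc B₀ = (Biᵀ * Bmᵀ) * B₀ * (Bm * Bi) := by rw [e2t, e2, Matrix.one_mul, Matrix.mul_one]
      _ = Biᵀ * (Bmᵀ * B₀ * Bm) * Bi := by simp only [Matrix.mul_assoc]
      _ = c • B' := by rw [hc', Matrix.mul_smul, Matrix.smul_mul]
  have hB₀1 : B₀ i₀ j₀ = 1 := by
    rw [hB₀, Matrix.map_apply, hB'', Matrix.smul_apply, smul_eq_mul, ← haDef,
      inv_mul_cancel₀ ha]
    exact hLid 1 K.one_mem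
  have hc0 : c ≠ 0 := by
    rintro rfl
    rw [zero_smul] at hB₀eq
    rw [hB₀eq] at hB₀1
    simp at hB₀1
  have hB'eq : B' = c⁻¹ • B₀ := by
    rw [hB₀eq, smul_smul, inv_mul_cancel₀ hc0, one_smul]
  have hdetB₀ : B₀.det ≠ 0 := by
    intro h0
    apply hB'ne
    rw [hB'eq, Matrix.det_smul, h0, mul_zero]
  have hdetB₀K : B₀.det ∈ K := det_mem_of_entries K B₀ hB₀K
  obtain ⟨j, hj⟩ := hodd
  set d : F := c⁻¹ with hd
  have hd0 : d ≠ 0 := inv_ne_zero hc0
  have hdet2 : Bi.det ^ 2 * G.det = d ^ (2 * j + 1) * B₀.det := by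
    rw [← hB'det, hB'eq, Matrix.det_smul, hj]
  refine ⟨d ^ j * Bm.det, mul_ne_zero (pow_ne_zero _ hd0) hdetBm, ?_⟩
  have hkey : (d ^ j * Bm.det) ^ 2 * d = G.det * B₀.det⁻¹ := by
    have h3 : d ^ (2 * j + 1) = Bi.det ^ 2 * G.det * B₀.det⁻¹ := by
      rw [hdet2, mul_assoc, mul_inv_cancel₀ hdetB₀, mul_one]
    calc (d ^ j * Bm.det) ^ 2 * d = d ^ (2 * j + 1) * Bm.det ^ 2 := by ring
      _ = (Bm.det * Bi.det) ^ 2 * G.det * B₀.det⁻¹ := by rw [h3]; ring
      _ = G.det * B₀.det⁻¹ := by rw [hdetB, one_pow, one_mul]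
  intro i j'
  rw [hB'eq, smul_smul, hkey, Matrix.smul_apply, smul_eq_mul]
  exact K.mul_mem (K.mul_mem hGK (K.inv_mem hdetB₀K)) (hB₀K i j')

/-- the invertible scalar matrix -/
noncomputable def scalarGL (μ : F) (hμ : μ ≠ 0) : GL ι F :=
  Units.map (Matrix.scalar ι : F →+* Matrix ι ι F).toMonoidHom (Units.mk0 μ hμ)

theorem scalarGL_val (μ : F) (hμ : μ ≠ 0) :
    ((scalarGL (ι := ι) μ hμ : GL ι F) : Matrix ι ι F) = μ • (1 : Matrix ι ι F) := by
  show Matrix.scalar ι μ = _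
  rw [Matrix.smul_one_eq_diagonal]
  rfl

theorem scalarGL_comm (μ : F) (hμ : μ ≠ 0) (g : GL ι F) :
    scalarGL μ hμ * g = g * scalarGL μ hμ := by
  apply Units.ext
  rw [Units.val_mul, Units.val_mul, scalarGL_val, Matrix.smul_mul, Matrix.mul_smul,
    Matrix.one_mul, Matrix.mul_one]

theorem conj_mul_scalarGL (μ : F) (hμ : μ ≠ 0) (P : GL ι F) :
    MulAut.conj (P * scalarGL μ hμ) = MulAut.conj P := by
  ext g : 1
  simp only [MulAut.conj_apply]
  rw [_root_.mul_inv_rev]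
  have h1 : scalarGL μ hμ * g * (scalarGL μ hμ)⁻¹ = g := by
    rw [scalarGL_comm, mul_assoc, mul_inv_cancel, mul_one]
  calc P * scalarGL μ hμ * g * ((scalarGL μ hμ)⁻¹ * P⁻¹)
      = P * (scalarGL μ hμ * g * (scalarGL μ hμ)⁻¹) * P⁻¹ := by simp only [mul_assoc]
    _ = P * g * P⁻¹ := by rw [h1]

theorem bf_mem_of_entries (K : Subfield F) (M : Matrix ι ι F) (hM : ∀ i j, M i j ∈ K)
    (u v : ι → F) (hu : ∀ i, u i ∈ K) (hv : ∀ i, v i ∈ K) : bf M u v ∈ K := by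
  unfold bf
  simp only [dotProduct, Matrix.mulVec]
  exact K.sum_mem fun i _ => K.mul_mem (hu i) (K.sum_mem fun j _ => K.mul_mem (hM i j) (hv j))

/-- class 5 from a realisation over a subfield -/
theorem class5_of_realisable [Fintype F] [Nonempty ι] (Q : QuadraticForm F (ι → F))
    (h2 : (2 : F) ≠ 0) (hodd : Odd (Fintype.card ι)) (hGdet : (gramQ Q).det ≠ 0)
    (K : Subfield F) (hGK : (gramQ Q).det ∈ K) (H N : Subgroup (GL ι F))
    (hHN : ∀ h ∈ H, ∀ x ∈ N, h * x * h⁻¹ ∈ N)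
    (hspan : Submodule.span F (mset N) = ⊤)
    (hN : ∀ x ∈ N, (x : Matrix ι ι F)ᵀ * gramQ Q * (x : Matrix ι ι F) = gramQ Q)
    (hreal : RealisableOver K (matrixSet N)) :
    ∃ P : GL ι F, IsQuadFormRationalStructure (⇑Q) K P ∧ H ≤ subfieldSubgroup K P := by
  classical
  obtain ⟨B, hB⟩ := hreal
  have hB' : ∀ x ∈ N, ∀ i j, ((B * x * B⁻¹ : GL ι F) : Matrix ι ι F) i j ∈ K := by
    intro x hx i j
    rw [Units.val_mul, Units.val_mul]
    exact hB _ ⟨x, hx, rfl⟩ i j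
  obtain ⟨μ, hμ, hent⟩ := form_descent hodd (gramQ Q) hGdet K hGK N hspan hN B hB'
  refine ⟨B⁻¹ * scalarGL μ hμ, ?_, ?_⟩
  · intro u hu
    rw [Q_eq_half Q h2, bf_mulVec]
    have h2K : (2 : F) ∈ K := by
      have := K.add_mem K.one_mem K.one_mem
      rwa [one_add_one_eq_two] at this
    refine K.mul_mem (K.inv_mem h2K) (bf_mem_of_entries K _ ?_ u u hu hu)
    have e : ((B⁻¹ * scalarGL μ hμ : GL ι F) : Matrix ι ι F)ᵀ * gramQ Q *
        ((B⁻¹ * scalarGL μ hμ : GL ι F) : Matrix ι ι F) =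
        μ ^ 2 • (((B⁻¹ : GL ι F) : Matrix ι ι F)ᵀ * gramQ Q *
          ((B⁻¹ : GL ι F) : Matrix ι ι F)) := by
      rw [Units.val_mul, scalarGL_val, Matrix.mul_smul, Matrix.mul_one, Matrix.transpose_smul,
        Matrix.smul_mul, Matrix.smul_mul, Matrix.mul_smul, smul_smul, pow_two]
    rw [e]
    exact hent
  · have h1 := subfield_le_gen H N hHN hspan K B hB'
    unfold subfieldSubgroup at h1 ⊢
    rw [conj_mul_scalarGL]
    exact h1

end Cfsg.Agent.Lib.Helper5.AschO
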