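import Mathlib
import Cfsg.Agent.Lib.Helper5.AschO.FormDescent
import Cfsg.Agent.Lib.Helper5.AschO.Reducible
import Cfsg.Agent.Lib.Helper5.AschO.Basis

set_option autoImplicit false

/-! Orthogonal frames: a transitive group permuting an orthogonal frame is written over every
subfield containing the discriminant. -/

namespace Cfsg.Agent.Lib.Helper5.AschO

open Module Matrix
open Cfsg Cfsg.Geo Cfsg.Agent.Lib.Helper8.Asch

variable {ι : Type} [Fintype ι] [DecidableEq ι] {F : Type*} [Field F]

theorem card_of_decomp {t k : ℕ} {D : Fin t → Submodule F (ι → F)} (hD : IsMDecomposition k D) :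
    t * k = Fintype.card ι := by
  have hInt : DirectSum.IsInternal D :=
    DirectSum.isInternal_submodule_of_iSupIndep_of_iSup_eq_top hD.indep hD.iSup_eq_top
  have hb := hInt.collectedBasis (fun i => Module.finBasis F (D i))
  have h1 := Module.finrank_eq_card_basis hb
  rw [Module.finrank_fintype_fun_eq_card, Fintype.card_sigma] at h1
  simp only [Fintype.card_fin, hD.finrank_eq, Finset.sum_const, Finset.card_univ,
    smul_eq_mul] at h1
  omega

theorem mem_range_of_entries (K : Subfield F) (g : GL ι F)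
    (hent : ∀ i j, (g : Matrix ι ι F) i j ∈ K) :
    g ∈ (Matrix.GeneralLinearGroup.map (K.subtype : K →+* F)).range := by
  let u₀ : Matrix ι ι K := fun i j => ⟨_, hent i j⟩
  have hu₀ : u₀.map (K.subtype : K →+* F) = (g : Matrix ι ι F) := by
    ext i j
    rfl
  have hdet : u₀.det ≠ 0 := by
    intro h0
    have h1 : (K.subtype : K →+* F) u₀.det = 0 := by rw [h0, map_zero]
    rw [RingHom.map_det] at h1
    have h2 : ((K.subtype : K →+* F).mapMatrix u₀) = u₀.map (K.subtype : K →+* F) := rfl
    rw [h2, hu₀] at h1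
    exact (g.isUnit.map Matrix.detMonoidHom).ne_zero h1
  refine ⟨Matrix.GeneralLinearGroup.mkOfDetNeZero u₀ hdet, ?_⟩
  apply Units.ext
  exact hu₀

/-- frame vectors of equal norm -/
theorem frame_vectors {G : Matrix ι ι F} {H : Subgroup (GL ι F)} (hH : OHyp G H) {t : ℕ}
    {D : Fin t → Submodule F (ι → F)} (hD : IsMDecomposition 1 D)
    (htr : ∀ i j, ∃ h ∈ H, (D i).map (Matrix.toLin' (h : Matrix ι ι F)) = D j) :
    ∃ (v : Fin t → ι → F) (a : F), (∀ i, v i ∈ D i) ∧ (∀ i, v i ≠ 0) ∧
      (∀ i, bf G (v i) (v i) = a) ∧ ∀ i, ∀ x ∈ D i, ∃ c : F, x = c • v i := by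
  have ht := hD.two_le
  let i₀ : Fin t := ⟨0, by omega⟩
  have hne : D i₀ ≠ ⊥ := by
    intro h
    have := hD.finrank_eq i₀
    rw [h, finrank_bot] at this
    omega
  obtain ⟨w, hw, hw0⟩ := Submodule.exists_mem_ne_zero_of_ne_bot hne
  choose hh hhH hhD using fun i => htr i₀ i
  have hvD : ∀ i, (hh i : Matrix ι ι F) *ᵥ w ∈ D i := by
    intro i
    rw [← hhD i]
    refine Submodule.mem_map.mpr ⟨w, hw, ?_⟩
    rw [Matrix.toLin'_apply]
  have hv0 : ∀ i, (hh i : Matrix ι ι F) *ᵥ w ≠ 0 := by
    intro i h0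
    apply hw0
    have : (((hh i)⁻¹ : GL ι F) : Matrix ι ι F) *ᵥ ((hh i : Matrix ι ι F) *ᵥ w) = w := by
      rw [Matrix.mulVec_mulVec, ← Units.val_mul, inv_mul_cancel, Units.val_one,
        Matrix.one_mulVec]
    rw [← this, h0, Matrix.mulVec_zero]
  refine ⟨fun i => (hh i : Matrix ι ι F) *ᵥ w, bf G w w, hvD, hv0, ?_, ?_⟩
  · intro i
    exact hH.bf_eq (hhH i) w w
  · intro i x hx
    have hnz : (⟨_, hvD i⟩ : D i) ≠ 0 := by
      intro h
      exact hv0 i (congrArg Subtype.val h)
    obtain ⟨c, hc⟩ := (finrank_eq_one_iff_of_nonzero' (⟨_, hvD i⟩ : D i) hnz).mp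
      (hD.finrank_eq i) ⟨x, hx⟩
    refine ⟨c, ?_⟩
    have := congrArg Subtype.val hc
    simp only [Submodule.coe_smul] at this
    exact this.symm

/-- class 5 from an orthogonal frame permuted transitively -/
theorem class5_of_frame [Nonempty ι] (Q : QuadraticForm F (ι → F))
    (h2 : (2 : F) ≠ 0) (hodd : Odd (Fintype.card ι)) (hGdet : (gramQ Q).det ≠ 0)
    (K : Subfield F) (hGK : (gramQ Q).det ∈ K) (H : Subgroup (GL ι F))
    (hH : OHyp (gramQ Q) H)
    {t : ℕ} (D : Fin t → Submodule F (ι → F)) (hD : IsMDecomposition 1 D)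
    (horth : ∀ i j, i ≠ j → AreOrthogonalFor (bf (gramQ Q)) (D i) (D j))
    (hstab : H ≤ decompositionStabilizer D)
    (htr : ∀ i j, ∃ h ∈ H, (D i).map (Matrix.toLin' (h : Matrix ι ι F)) = D j) :
    ∃ P : GL ι F, IsQuadFormRationalStructure (⇑Q) K P ∧ H ≤ subfieldSubgroup K P := by
  classical
  set G := gramQ Q with hGdef
  obtain ⟨v, a2, hvD, hv0, hva, hvspan⟩ := frame_vectors hH hD htr
  have hcard : t = Fintype.card ι := by
    have := card_of_decomp hD
    omega
  have hli : LinearIndependent F v := hD.indep.linearIndependent D hvD hv0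
  let e : ι ≃ Fin t := Fintype.equivOfCardEq (by rw [Fintype.card_fin, hcard])
  have hli' : LinearIndependent F (fun i => v (e i)) := hli.comp e e.injective
  let b : Basis ι F (ι → F) := basisOfLinearIndependentOfCardEqFinrank hli'
    (by rw [Module.finrank_fintype_fun_eq_card])
  have hb : ∀ i, b i = v (e i) := by
    intro i
    simp [b]
  have horth' : ∀ i j, i ≠ j → bf G (b i) (b j) = 0 := by
    intro i j hij
    rw [hb, hb]
    exact horth _ _ (fun h => hij (e.injective h)) _ (hvD _) _ (hvD _)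
  have hdiag : gramB G b = a2 • (1 : Matrix ι ι F) := by
    ext i j
    rw [gramB_apply]
    by_cases h : i = j
    · subst h
      rw [hb, hva]
      simp
    · rw [horth' i j h]
      simp [Matrix.one_apply_ne h]
  have ha2 : a2 ≠ 0 := by
    have := gramB_det hGdet b
    rw [hdiag, Matrix.det_smul, Matrix.det_one, mul_one] at this
    intro h
    apply this
    rw [h, zero_pow Fintype.card_ne_zero]
  set P₀ : GL ι F := basisGL b (Equiv.refl ι) with hP₀
  have hP₀val : (P₀ : Matrix ι ι F) = colM b := by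
    rw [hP₀, basisGL_val]
    ext i j
    rfl
  have hP₀inv : ((P₀⁻¹ : GL ι F) : Matrix ι ι F) = rowM b := by
    show (rowM b).submatrix _ _ = _
    ext i j
    rfl
  have hgram : (P₀ : Matrix ι ι F)ᵀ * G * (P₀ : Matrix ι ι F) = a2 • (1 : Matrix ι ι F) := by
    rw [← hdiag, hP₀val]
    rfl
  have hP₀det : (P₀ : Matrix ι ι F).det ≠ 0 := (P₀.isUnit.map Matrix.detMonoidHom).ne_zero
  obtain ⟨j, hj⟩ := hodd
  have hdet : a2 ^ (2 * j + 1) = (P₀ : Matrix ι ι F).det ^ 2 * G.det := by
    have := congrArg Matrix.det hgram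
    rw [Matrix.det_mul, Matrix.det_mul, Matrix.det_transpose, Matrix.det_smul, Matrix.det_one,
      mul_one, hj] at this
    rw [← this]
    ring
  set μ : F := a2 ^ j / (P₀ : Matrix ι ι F).det with hμdef
  have hμ : μ ≠ 0 := div_ne_zero (pow_ne_zero _ ha2) hP₀det
  have hμ2 : μ ^ 2 * a2 = G.det := by
    have h3 : (a2 ^ j) ^ 2 * a2 = (P₀ : Matrix ι ι F).det ^ 2 * G.det := by
      rw [← hdet]
      ring
    rw [hμdef, div_pow, div_mul_eq_mul_div, h3]
    field_simp
  have hPGP : ((P₀ * scalarGL μ hμ : GL ι F) : Matrix ι ι F)ᵀ * G *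
      ((P₀ * scalarGL μ hμ : GL ι F) : Matrix ι ι F) = G.det • (1 : Matrix ι ι F) := by
    rw [Units.val_mul, scalarGL_val, Matrix.mul_smul, Matrix.mul_one, Matrix.transpose_smul,
      Matrix.smul_mul, Matrix.smul_mul, Matrix.mul_smul, smul_smul, hgram, smul_smul, ← hμ2]
    congr 1
    ring
  refine ⟨P₀ * scalarGL μ hμ, ?_, ?_⟩
  · intro u hu
    rw [Q_eq_half Q h2, bf_mulVec, hPGP]
    have h2K : (2 : F) ∈ K := by
      have := K.add_mem K.one_mem K.one_mem
      rwa [one_add_one_eq_two] at this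
    refine K.mul_mem (K.inv_mem h2K) (bf_mem_of_entries K _ ?_ u u hu hu)
    intro i j
    rw [Matrix.smul_apply, smul_eq_mul]
    by_cases h : i = j
    · subst h
      rw [Matrix.one_apply_eq, mul_one]
      exact hGK
    · rw [Matrix.one_apply_ne h, mul_zero]
      exact K.zero_mem
  · intro h hh
    unfold subfieldSubgroup
    rw [conj_mul_scalarGL]
    refine Subgroup.mem_map.mpr ⟨P₀⁻¹ * h * P₀,
      Subgroup.mem_sup_left (mem_range_of_entries K _ ?_), ?_⟩
    · intro i j'
      rw [Units.val_mul, Units.val_mul, hP₀inv, hP₀val, ← toMatrix_toLin_eq,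
        LinearMap.toMatrix_apply, Matrix.toLin'_apply]
      obtain ⟨σ, hσ⟩ := hstab hh
      have hmem : (h : Matrix ι ι F) *ᵥ b j' ∈ D (σ (e j')) := by
        rw [← hσ (e j')]
        refine Submodule.mem_map.mpr ⟨b j', ?_, ?_⟩
        · rw [hb]
          exact hvD _
        · rw [Matrix.toLin'_apply]
      obtain ⟨c, hc⟩ := hvspan _ _ hmem
      have hc2 : c * c = 1 := by
        have h1 := hH.bf_eq hh (b j') (b j')
        rw [hc, bf_smul_left, bf_smul_right, hva, hb, hva] at h1
        have : (c * c) * a2 = 1 * a2 := by linear_combination h1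
        exact mul_right_cancel₀ ha2 this
      have hcK : c ∈ K := by
        have : (c - 1) * (c + 1) = 0 := by linear_combination hc2
        rcases mul_eq_zero.mp this with h | h
        · have : c = 1 := by linear_combination h
          rw [this]
          exact K.one_mem
        · have : c = -1 := by linear_combination h
          rw [this]
          exact K.neg_mem K.one_mem
      have hvb : v (σ (e j')) = b (e.symm (σ (e j'))) := by
        rw [hb, Equiv.apply_symm_apply]
      rw [hc, hvb, map_smul, Basis.repr_self, Finsupp.smul_apply, smul_eq_mul,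
        Finsupp.single_apply]
      split_ifs
      · rw [mul_one]
        exact hcK
      · rw [mul_zero]
        exact K.zero_mem
    · simp only [MulEquiv.coe_toMonoidHom, MulAut.conj_apply]
      group

end Cfsg.Agent.Lib.Helper5.AschO
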