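import Mathlib
import Cfsg.Agent.Lib.Helper5.AschO.Classes
import Cfsg.Agent.Lib.Helper5.AschO.DecompMain
import Cfsg.Agent.Lib.Helper5.AschO.Frame
import Cfsg.Agent.Lib.Helper8.AschS1

set_option autoImplicit false

/-! The imprimitive case (class 2, or class 5 for frames over non-prime fields). -/

namespace Cfsg.Agent.Lib.Helper5.AschO

open Module Matrix QuadraticMap
open Cfsg Cfsg.Geo Cfsg.Agent.Lib.Helper8.Asch

variable {ι : Type} [Fintype ι] [DecidableEq ι] {F : Type*} [Field F]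

theorem bot_ne_top_of_not_prime [Fintype F] (hp : ¬ (Fintype.card F).Prime) :
    (⊥ : Subfield F) ≠ ⊤ := by
  intro h
  apply hp
  obtain ⟨p, hchar⟩ := CharP.exists F
  haveI := hchar
  haveI : Fact p.Prime := ⟨CharP.char_is_prime F p⟩
  have h1 := Subfield.card_bot F p
  rw [h] at h1
  have h2 : Nat.card (⊤ : Subfield F) = Nat.card F :=
    Nat.card_congr (Subfield.topEquiv (K := F)).toEquiv
  rw [h2, Nat.card_eq_fintype_card] at h1
  rw [h1]
  exact Fact.out

/-- the imprimitive case -/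
theorem decomp_case [Fintype F] [Nonempty ι] (Q : QuadraticForm F (ι → F)) (h2 : (2 : F) ≠ 0)
    (hodd : Odd (Fintype.card ι)) (hGdet : (gramQ Q).det ≠ 0)
    (hGK : ∀ K : Subfield F, (gramQ Q).det ∈ K)
    {H N : Subgroup (GL ι F)} (hH : OHyp (gramQ Q) H) (hI : H ≤ isometryGroup F ⇑Q)
    (hirr : Irr (HV H)) (hNH : N ≤ H) (hinv : ∀ h ∈ H, ∀ x ∈ N, h * x * h⁻¹ ∈ N)
    (hnot : ¬ IsIsotypic (algOf (HV N)) (ι → F)) :
    ∃ M, InOClassGen (⇑Q) M ∧ H ≤ M := by
  obtain ⟨t, k, D, hD, hnd, horth, hstab, htr⟩ :=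
    decomp_of_not_isotypic hGdet (gramQ_symm Q) hodd hH hirr hNH hinv hnot
  have hOD := orthDecomp_of_data Q h2 hH hD hnd horth htr
  by_cases hk : 1 < k
  · exact cls2 hI hk hOD hstab
  have hk1 : k = 1 := by
    have := hD.pos
    omega
  subst hk1
  by_cases hp : (Fintype.card F).Prime
  · exact cls2' hI hp hOD hstab
  obtain ⟨K, r, -, hr, hcard⟩ := exists_max_subfield (⊥ : Subfield F) (bot_ne_top_of_not_prime hp)
  obtain ⟨P, hP, hHP⟩ := class5_of_frame Q h2 hodd hGdet K (hGK K) H hH D hD horth hstab htr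
  exact cls5 hI hr hcard hP hHP

end Cfsg.Agent.Lib.Helper5.AschO
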