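import Cfsg.Agent.Lib.Helper5.AschO.Wreath
import Cfsg.Agent.Lib.Helper8.AschB1

set_option autoImplicit false

/-! A central product of conjugate factors: the wreath form, for a general index type
(after helper8's `AschB1`, `AschB2`, which are stated for `Fin n`), remembering the factor
algebras. -/

namespace Cfsg.Agent.Lib.Helper5.AschO

open Module Matrix
open Cfsg Cfsg.Geo Cfsg.Agent.Lib.Helper8.Asch

variable {ι : Type} [Fintype ι] [DecidableEq ι] {F : Type*} [Field F]

theorem irr_of_span_gen (N : Subgroup (GL ι F)) (hspan : Submodule.span F (mset N) = ⊤) :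
    Irr (HV N) := by
  intro W hW
  by_cases hbot : W = ⊥
  · left; exact hbot
  right
  obtain ⟨w, hwW, hw0⟩ := Submodule.exists_mem_ne_zero_of_ne_bot hbot
  -- all matrices preserve W
  let T : Submodule F (Matrix ι ι F) :=
    { carrier := {M | ∀ w ∈ W, M *ᵥ w ∈ W}
      add_mem' := by
        intro a b ha hb w hw
        rw [Matrix.add_mulVec]
        exact W.add_mem (ha w hw) (hb w hw)
      zero_mem' := by
        intro w _
        rw [Matrix.zero_mulVec]
        exact W.zero_mem
      smul_mem' := by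
        intro c a ha w hw
        rw [Matrix.smul_mulVec]
        exact W.smul_mem c (ha w hw) }
  have hT : T = ⊤ := by
    rw [eq_top_iff, ← hspan, Submodule.span_le]
    rintro M ⟨g, hg, rfl⟩ w hw
    have := hW (toV g) (mem_HV hg) w hw
    rwa [toV_apply] at this
  obtain ⟨i, hi⟩ : ∃ i, w i ≠ 0 := by
    by_contra hcon
    push Not at hcon
    exact hw0 (funext hcon)
  rw [eq_top_iff]
  intro v _
  have hM : (Matrix.of fun a b => if b = i then v a / w i else 0 : Matrix ι ι F) ∈ T := by
    rw [hT]; trivial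
  have := hM w hwW
  have e : (Matrix.of fun a b => if b = i then v a / w i else 0 : Matrix ι ι F) *ᵥ w
      = v := by
    funext a
    rw [Matrix.mulVec, dotProduct, Finset.sum_eq_single i]
    · simp only [Matrix.of_apply, if_true]
      field_simp
    · intro b _ hb
      simp only [Matrix.of_apply, if_neg hb, zero_mul]
    · intro h
      exact absurd (Finset.mem_univ i) h
  rwa [e] at this

theorem cent_of_span_gen (N : Subgroup (GL ι F)) (hspan : Submodule.span F (mset N) = ⊤)
    (z : Module.End F (ι → F))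
    (hz : ∀ g ∈ HV N, z * (g : Module.End F (ι → F)) = (g : Module.End F (ι → F)) * z) :
    ∃ c : F, z = c • (1 : Module.End F (ι → F)) := by
  set Z := LinearMap.toMatrix' z with hZ
  have hzZ : Matrix.toLin' Z = z := Matrix.toLin'_toMatrix' z
  have h1 : ∀ X ∈ mset N, Z * X = X * Z := by
    rintro X ⟨g, hg, rfl⟩
    have := hz (toV g) (mem_HV hg)
    rw [toV_val, ← hzZ] at this
    apply Matrix.toLin'.injective
    have e : ∀ a b : Matrix ι ι F,
        Matrix.toLin' (a * b) = Matrix.toLin' a * Matrix.toLin' b := fun a b => Matrix.toLin'_mul a b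
    rw [e, e]
    exact this
  obtain ⟨c, hc⟩ := scalar_of_commute_span hspan h1
  refine ⟨c, ?_⟩
  rw [← hzZ, hc, map_smul, Matrix.toLin'_one]
  rfl

theorem conj_mem_algOf_gen (P : Subgroup (GL ι F)) (h : GL ι F)
    (x : Module.End F (ι → F)) (hx : x ∈ algOf (HV P)) :
    ((toV h : GLV F (ι → F)) : Module.End F (ι → F)) * x *
      (((toV h)⁻¹ : GLV F (ι → F)) : Module.End F (ι → F)) ∈ algOf (HV (cj h P)) := by
  unfold algOf at hx
  induction hx using Algebra.adjoin_induction with
  | mem x hx =>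
    obtain ⟨u, hu, rfl⟩ := hx
    obtain ⟨g, hg, rfl⟩ := exists_of_mem_HV hu
    have : ((toV h : GLV F (ι → F)) : Module.End F (ι → F)) *
        ((toV g : GLV F (ι → F)) : Module.End F (ι → F)) *
        (((toV h)⁻¹ : GLV F (ι → F)) : Module.End F (ι → F)) =
        ((toV (h * g * h⁻¹) : GLV F (ι → F)) : Module.End F (ι → F)) := by
      rw [map_mul, map_mul, map_inv, Units.val_mul, Units.val_mul]
    rw [this]
    exact mem_algOf (mem_HV (conj_mem_cj hg))
  | algebraMap c =>
    rw [← Algebra.commutes, mul_assoc, val_mul_inv, mul_one]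
    exact Subalgebra.algebraMap_mem _ c
  | add x y _ _ hx hy =>
    rw [mul_add, add_mul]
    exact Subalgebra.add_mem _ hx hy
  | mul x y _ _ hx hy =>
    have : ((toV h : GLV F (ι → F)) : Module.End F (ι → F)) * (x * y) *
        (((toV h)⁻¹ : GLV F (ι → F)) : Module.End F (ι → F)) =
        (((toV h : GLV F (ι → F)) : Module.End F (ι → F)) * x *
          (((toV h)⁻¹ : GLV F (ι → F)) : Module.End F (ι → F))) *
        (((toV h : GLV F (ι → F)) : Module.End F (ι → F)) * y *
          (((toV h)⁻¹ : GLV F (ι → F)) : Module.End F (ι → F))) := by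
      simp only [mul_assoc]
      rw [← mul_assoc (((toV h)⁻¹ : GLV F (ι → F)) : Module.End F (ι → F)),
        val_inv_mul, one_mul]
    rw [this]
    exact Subalgebra.mul_mem _ hx hy

theorem finrank_algOf_le_gen (P : Subgroup (GL ι F)) (h : GL ι F) :
    finrank F (algOf (HV P)) ≤ finrank F (algOf (HV (cj h P))) := by
  let φ : algOf (HV P) →ₗ[F] algOf (HV (cj h P)) :=
    { toFun := fun x => ⟨_, conj_mem_algOf_gen P h x.1 x.2⟩
      map_add' := by
        intro x y
        apply Subtype.ext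
        simp only [Subalgebra.coe_add, mul_add, add_mul]
      map_smul' := by
        intro c x
        apply Subtype.ext
        simp only [Subalgebra.coe_smul, mul_smul_comm, smul_mul_assoc, RingHom.id_apply] }
  refine LinearMap.finrank_le_finrank_of_injective (f := φ) ?_
  intro x y hxy
  have h1 := congrArg (Subtype.val : algOf (HV (cj h P)) → Module.End F (ι → F)) hxy
  simp only [φ, LinearMap.coe_mk, AddHom.coe_mk] at h1
  apply Subtype.ext
  have h2 := congrArg (fun t => (((toV h)⁻¹ : GLV F (ι → F)) : Module.End F (ι → F)) * t *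
    ((toV h : GLV F (ι → F)) : Module.End F (ι → F))) h1
  simp only [mul_assoc] at h2
  rw [val_inv_mul, mul_one, ← mul_assoc, val_inv_mul, one_mul, ← mul_assoc, val_inv_mul,
    one_mul] at h2
  exact h2


theorem wreath_of_caseB_gen [Finite F] [Nonempty ι] (H N : Subgroup (GL ι F))
    (hspan : Submodule.span F (mset N) = ⊤)
    (k : ℕ) (P : Fin k → Subgroup (GL ι F)) (hk : 2 ≤ k) (hPN : ∀ i, P i ≤ N)
    (hcomm : ∀ i j, i ≠ j → ∀ x ∈ P i, ∀ y ∈ P j, x * y = y * x)
    (hgen : Subgroup.closure (⋃ i, (P i : Set (GL ι F))) = N)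
    (hperm : ∀ h ∈ H, ∃ σ : Equiv.Perm (Fin k), ∀ i, cj h (P i) = P (σ i))
    (htrans : ∀ i j, ∃ h ∈ H, cj h (P i) = P j) :
    ∃ (m : ℕ) (b : Basis (Fin k → Fin m) F (ι → F)), 0 < m ∧
      (∀ i, (∀ x ∈ algOf (HV (P i)), ∃ X : Matrix (Fin m) (Fin m) F,
          LinearMap.toMatrix b b x = posMat i X) ∧
        (∀ X : Matrix (Fin m) (Fin m) F, ∃ x ∈ algOf (HV (P i)),
          LinearMap.toMatrix b b x = posMat i X)) ∧
      IsWreathIn H b := by
  have hgen' : HV N ≤ Subgroup.closure (⋃ i, (HV (P i) : Set (GLV F (ι → F)))) := by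
    rw [← hgen]
    unfold HV
    rw [MonoidHom.map_closure]
    apply Subgroup.closure_mono
    rintro x ⟨g, hg, rfl⟩
    obtain ⟨i, hi⟩ := Set.mem_iUnion.mp hg
    exact Set.mem_iUnion.mpr ⟨i, Subgroup.mem_map_of_mem _ hi⟩
  have hcomm' : ∀ i j, i ≠ j → ∀ x ∈ HV (P i), ∀ y ∈ HV (P j), x * y = y * x := by
    intro i j hij x hx y hy
    obtain ⟨x₀, hx₀, rfl⟩ := exists_of_mem_HV hx
    obtain ⟨y₀, hy₀, rfl⟩ := exists_of_mem_HV hy
    rw [← map_mul, ← map_mul, hcomm i j hij x₀ hx₀ y₀ hy₀]
  have hdim : ∀ i j, finrank F (algOf (HV (P i))) = finrank F (algOf (HV (P j))) := by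
    have hle : ∀ i j, finrank F (algOf (HV (P i))) ≤ finrank F (algOf (HV (P j))) := by
      intro i j
      obtain ⟨h, -, hh⟩ := htrans i j
      have := finrank_algOf_le_gen (P i) h
      rwa [hh] at this
    exact fun i j => le_antisymm (hle i j) (hle j i)
  obtain ⟨m, b, hm, hb⟩ := tensor_factor_basis (by omega : 0 < k)
    (fun i => Subgroup.map_mono (hPN i)) hgen' hcomm' (irr_of_span_gen N hspan)
    (cent_of_span_gen N hspan) hdim
  refine ⟨m, b, hm, hb, ?_⟩
  intro h hh
  obtain ⟨σ, hσ⟩ := hperm h hh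
  set u : GLV F (ι → F) := toV h with hu
  have hg : ∀ i (X : Matrix (Fin m) (Fin m) F), ∃ X' : Matrix (Fin m) (Fin m) F,
      (glMat b u : Matrix (Fin k → Fin m) (Fin k → Fin m) F) * posMat i X *
        (((glMat b u)⁻¹ : GL (Fin k → Fin m) F) : Matrix (Fin k → Fin m) (Fin k → Fin m) F) =
          posMat (σ i) X' := by
    intro i X
    obtain ⟨x, hx, hxX⟩ := (hb i).2 X
    have h1 := conj_mem_algOf_gen (P i) h x hx
    rw [hσ i] at h1
    obtain ⟨X', hX'⟩ := (hb (σ i)).1 _ h1
    refine ⟨X', ?_⟩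
    rw [← hX', ← map_inv, glMat_val, glMat_val, ← hxX, LinearMap.toMatrix_mul,
      LinearMap.toMatrix_mul]
  obtain ⟨Us, hUs⟩ := wreath_decomp hm (by omega) (glMat b u) σ hg
  refine ⟨σ, Us, ?_⟩
  rw [← hUs, glMat_val, hu, toV_val]

end Cfsg.Agent.Lib.Helper5.AschO
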