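import Mathlib
import Cfsg.Agent.Lib.Helper5.AschO.Basis
import Cfsg.Agent.Lib.Helper8.AschF1
import Cfsg.Agent.Lib.Helper8.Asch20

set_option autoImplicit false

/-! A group preserving both a symmetric and a hermitian form is realised over the fixed field. -/

namespace Cfsg.Agent.Lib.Helper5.AschO

open Module Matrix Polynomial
open Cfsg Cfsg.Geo Cfsg.Agent.Lib.Helper8.Asch

variable {ι : Type} [Fintype ι] [DecidableEq ι] {F : Type*} [Field F]

/-- the fixed field of a ring endomorphism -/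
def fixedSubfield (τ : F →+* F) : Subfield F where
  carrier := {a | τ a = a}
  mul_mem' := fun {a b} (ha : τ a = a) (hb : τ b = b) => by
    show τ (a * b) = a * b
    rw [map_mul, ha, hb]
  one_mem' := map_one τ
  add_mem' := fun {a b} (ha : τ a = a) (hb : τ b = b) => by
    show τ (a + b) = a + b
    rw [map_add, ha, hb]
  zero_mem' := map_zero τ
  neg_mem' := fun {a} (ha : τ a = a) => by
    show τ (-a) = -a
    rw [map_neg, ha]
  inv_mem' := fun a (ha : τ a = a) => by
    show τ a⁻¹ = a⁻¹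
    rw [map_inv₀, ha]

theorem mem_fixedSubfield (τ : F →+* F) (a : F) : a ∈ fixedSubfield τ ↔ τ a = a := Iff.rfl

theorem exists_anti (τ : F →+* F) (hτ : ∀ a, τ (τ a) = a) (hne : ∃ a, τ a ≠ a) :
    ∃ ζ : F, ζ ≠ 0 ∧ τ ζ = -ζ := by
  obtain ⟨y, hy⟩ := hne
  refine ⟨y - τ y, sub_ne_zero.mpr (Ne.symm hy), ?_⟩
  rw [map_sub, hτ]
  ring

theorem norm_surj [Finite F] (τ : F →+* F) (h2 : (2 : F) ≠ 0) (ζ : F)
    (hζ0 : ζ ≠ 0) (hζ : τ ζ = -ζ) (c : F) (hc : τ c = c) : ∃ l : F, l * τ l = c := by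
  classical
  set K := fixedSubfield τ with hK
  haveI : Fintype K := Fintype.ofFinite K
  have hδ : ζ ^ 2 ∈ K := by
    show τ (ζ ^ 2) = ζ ^ 2
    rw [map_pow, hζ]
    ring
  let δ : K := ⟨ζ ^ 2, hδ⟩
  let c' : K := ⟨c, hc⟩
  have hδ0 : δ ≠ 0 := by
    intro h
    have := congrArg (Subtype.val) h
    exact pow_ne_zero 2 hζ0 this
  have hcard : Fintype.card K % 2 = 1 := by
    apply FiniteField.odd_card_of_char_ne_two
    intro h
    have h3 := @CharP.cast_eq_zero K _ (ringChar K) (ringChar.charP K)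
    rw [h] at h3
    apply h2
    have h4 := congrArg (K.subtype) h3
    rw [map_zero, map_natCast] at h4
    exact_mod_cast h4
  obtain ⟨a, b, hab⟩ := FiniteField.exists_root_sum_quadratic (R := K)
    (f := X ^ 2 - C c') (g := C (-δ) * X ^ 2)
    (degree_X_pow_sub_C (by decide) _)
    (by rw [degree_C_mul_X_pow 2 (neg_ne_zero.mpr hδ0)]; rfl) hcard
  simp only [eval_sub, eval_pow, eval_X, eval_C, eval_mul] at hab
  refine ⟨(a : F) + (b : F) * ζ, ?_⟩
  have ha : τ (a : F) = a := a.2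
  have hb : τ (b : F) = b := b.2
  rw [map_add, map_mul, ha, hb, hζ]
  have h5 := congrArg (K.subtype) hab
  simp only [map_add, map_sub, map_mul, map_pow, map_neg, map_zero, Subfield.coe_subtype] at h5
  have h6 : ((δ : K) : F) = ζ ^ 2 := rfl
  have h7 : ((c' : K) : F) = c := rfl
  rw [h6, h7] at h5
  linear_combination h5

/-- Hilbert 90 for an involution on invertible matrices -/
theorem hilbert90 (τ : F →+* F) (hτ : ∀ a, τ (τ a) = a) (h2 : (2 : F) ≠ 0) (ζ : F)
    (hζ0 : ζ ≠ 0) (hζ : τ ζ = -ζ) (U : Matrix ι ι F) (hU : U * U.map τ = 1) :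
    ∃ C : GL ι F, U * (C : Matrix ι ι F).map τ = (C : Matrix ι ι F) := by
  classical
  set s : (ι → F) → (ι → F) := fun v => U *ᵥ (τ ∘ v) with hs
  have hs_add : ∀ v w, s (v + w) = s v + s w := by
    intro v w
    have : τ ∘ (v + w) = τ ∘ v + τ ∘ w := by
      funext i
      simp
    simp only [hs, this, Matrix.mulVec_add]
  have hs_smul : ∀ (a : F) v, s (a • v) = τ a • s v := by
    intro a v
    have : τ ∘ (a • v) = τ a • (τ ∘ v) := by
      funext i
      simp
    simp only [hs, this, Matrix.mulVec_smul]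
  have hs_neg : ∀ v, s (-v) = - s v := by
    intro v
    have := hs_smul (-1) v
    simpa using this
  have hs_sub : ∀ v w, s (v - w) = s v - s w := by
    intro v w
    rw [sub_eq_add_neg, hs_add, hs_neg, ← sub_eq_add_neg]
  have hs_inv : ∀ v, s (s v) = v := by
    intro v
    simp only [hs]
    rw [comp_mulVec, Matrix.mulVec_mulVec, hU]
    have : τ ∘ τ ∘ v = v := by
      funext i
      simp [hτ]
    rw [this, Matrix.one_mulVec]
  set W : Set (ι → F) := {v | s v = v} with hW
  have hspan : Submodule.span F W = ⊤ := by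
    rw [eq_top_iff]
    intro v _
    have e : v = (2⁻¹ : F) • (v + s v) + (2⁻¹ * ζ) • (ζ⁻¹ • (v - s v)) := by
      funext i
      simp only [Pi.add_apply, Pi.smul_apply, Pi.sub_apply, smul_eq_mul]
      field_simp
      ring
    rw [e]
    refine add_mem (Submodule.smul_mem _ _ (Submodule.subset_span ?_))
      (Submodule.smul_mem _ _ (Submodule.subset_span ?_))
    · show s (v + s v) = v + s v
      rw [hs_add, hs_inv, add_comm]
    · show s (ζ⁻¹ • (v - s v)) = ζ⁻¹ • (v - s v)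
      rw [hs_smul, hs_sub, hs_inv, map_inv₀, hζ]
      funext i
      simp only [Pi.smul_apply, Pi.sub_apply, smul_eq_mul]
      field_simp
      ring
  obtain ⟨b, hbW, hbspan, hbli⟩ := exists_linearIndependent F W
  have htop : ⊤ ≤ Submodule.span F (Set.range ((↑) : b → ι → F)) := by
    rw [Subtype.range_coe, hbspan, hspan]
  let bb : Basis b F (ι → F) := Basis.mk hbli htop
  haveI : Finite b := Module.Finite.finite_basis bb
  haveI : Fintype b := Fintype.ofFinite b
  have hcard : Fintype.card ι = Fintype.card b := by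
    rw [← Module.finrank_eq_card_basis bb, Module.finrank_fintype_fun_eq_card]
  let e : ι ≃ b := Fintype.equivOfCardEq hcard
  let bb' : Basis ι F (ι → F) := bb.reindex e.symm
  refine ⟨basisGL bb' (Equiv.refl ι), ?_⟩
  ext i j
  have h1 : ∀ k, (basisGL bb' (Equiv.refl ι) : Matrix ι ι F) k j = ((e j : b) : ι → F) k := by
    intro k
    rw [basisGL_val, Matrix.submatrix_apply, colM_apply]
    simp [bb', bb]
  have h3 : s ((e j : b) : ι → F) = ((e j : b) : ι → F) := hbW (e j).2
  rw [h1, ← h3]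
  simp only [hs, Matrix.mul_apply, Matrix.map_apply, Matrix.mulVec, dotProduct, Function.comp]
  refine Finset.sum_congr rfl fun k _ => ?_
  rw [h1]

theorem map_map_invol (τ : F →+* F) (hτ : ∀ a, τ (τ a) = a) (X : Matrix ι ι F) :
    (X.map τ).map τ = X := by
  ext i j
  simp [hτ]

theorem map_smul_hom (τ : F →+* F) (l : F) (X : Matrix ι ι F) :
    (l • X).map τ = τ l • X.map τ := by
  ext i j
  simp

theorem unitary_descent [Finite F] [Nonempty ι] (h2 : (2 : F) ≠ 0) (N : Subgroup (GL ι F))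
    (hspan : Submodule.span F (mset N) = ⊤) (G : Matrix ι ι F) (hG : G.det ≠ 0)
    (hN : ∀ x ∈ N, (x : Matrix ι ι F)ᵀ * G * (x : Matrix ι ι F) = G)
    (τ : F →+* F) (hτne : ∃ a, τ a ≠ a) (hτ : ∀ a, τ (τ a) = a)
    (Hm : Matrix ι ι F) (hHm : Hm.det ≠ 0)
    (hNH : ∀ x ∈ N, (x : Matrix ι ι F)ᵀ * Hm * (x : Matrix ι ι F).map τ = Hm) :
    RealisableOver (fixedSubfield τ) (matrixSet N) ∧ fixedSubfield τ ≠ ⊤ := by
  classical
  obtain ⟨ζ, hζ0, hζ⟩ := exists_anti τ hτ hτne
  set Gi : Matrix ι ι F := G⁻¹ with hGi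
  have hGu : IsUnit G.det := isUnit_iff_ne_zero.mpr hG
  have g1 : G * Gi = 1 := Matrix.mul_nonsing_inv G hGu
  have g2 : Gi * G = 1 := Matrix.nonsing_inv_mul G hGu
  have hGidet : Gi.det ≠ 0 := by
    intro h
    have := congrArg Matrix.det g2
    rw [Matrix.det_mul, h, zero_mul, Matrix.det_one] at this
    exact zero_ne_one this
  set U₀ : Matrix ι ι F := Gi * Hm with hU₀
  have hU₀det : U₀.det ≠ 0 := by
    rw [hU₀, Matrix.det_mul]
    exact mul_ne_zero hGidet hHm
  have hkey : ∀ x ∈ N, (x : Matrix ι ι F) * U₀ = U₀ * (x : Matrix ι ι F).map τ := by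
    intro x hx
    set X : Matrix ι ι F := (x : Matrix ι ι F) with hX
    set Xi : Matrix ι ι F := ((x⁻¹ : GL ι F) : Matrix ι ι F) with hXi
    have x1 : X * Xi = 1 := by rw [hX, hXi, ← Units.val_mul, mul_inv_cancel, Units.val_one]
    have h1 := hN x hx
    have h3 : Xᵀ * G = G * Xi := by
      calc Xᵀ * G = Xᵀ * G * (X * Xi) := by rw [x1, Matrix.mul_one]
        _ = (Xᵀ * G * X) * Xi := by simp only [Matrix.mul_assoc]
        _ = G * Xi := by rw [h1]
    have h4 := hNH x hx
    have h5 : Xᵀ = G * Xi * Gi := by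
      calc Xᵀ = Xᵀ * (G * Gi) := by rw [g1, Matrix.mul_one]
        _ = (Xᵀ * G) * Gi := by rw [Matrix.mul_assoc]
        _ = G * Xi * Gi := by rw [h3]
    calc X * U₀ = X * Gi * Hm := by rw [hU₀, Matrix.mul_assoc]
      _ = X * Gi * (Xᵀ * Hm * X.map τ) := by rw [h4]
      _ = X * Gi * (G * Xi * Gi * Hm * X.map τ) := by rw [← h5]
      _ = X * (Gi * G) * Xi * Gi * Hm * X.map τ := by simp only [Matrix.mul_assoc]
      _ = (X * Xi) * Gi * Hm * X.map τ := by rw [g2, Matrix.mul_one]
      _ = U₀ * X.map τ := by rw [x1, Matrix.one_mul, hU₀]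
  have hkey2 : ∀ x ∈ N, (x : Matrix ι ι F).map τ * U₀.map τ =
      U₀.map τ * (x : Matrix ι ι F) := by
    intro x hx
    have := congrArg (fun M : Matrix ι ι F => M.map τ) (hkey x hx)
    simp only [Matrix.map_mul, map_map_invol τ hτ] at this
    exact this
  have hcomm : ∀ X ∈ mset N, (U₀ * U₀.map τ) * X = X * (U₀ * U₀.map τ) := by
    rintro X ⟨x, hx, rfl⟩
    show U₀ * U₀.map τ * (x : Matrix ι ι F) = (x : Matrix ι ι F) * (U₀ * U₀.map τ)
    calc U₀ * U₀.map τ * (x : Matrix ι ι F) = U₀ * (U₀.map τ * (x : Matrix ι ι F)) :=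
          Matrix.mul_assoc _ _ _
      _ = U₀ * ((x : Matrix ι ι F).map τ * U₀.map τ) := by rw [hkey2 x hx]
      _ = (U₀ * (x : Matrix ι ι F).map τ) * U₀.map τ := (Matrix.mul_assoc _ _ _).symm
      _ = (x : Matrix ι ι F) * U₀ * U₀.map τ := by rw [hkey x hx]
      _ = (x : Matrix ι ι F) * (U₀ * U₀.map τ) := Matrix.mul_assoc _ _ _
  obtain ⟨c, hc⟩ := scalar_of_commute_span hspan hcomm
  have hdetτ : (U₀.map τ).det = τ U₀.det := (RingHom.map_det τ U₀).symm
  have hc0 : c ≠ 0 := by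
    rintro rfl
    rw [zero_smul] at hc
    have := congrArg Matrix.det hc
    rw [Matrix.det_mul, Matrix.det_zero, hdetτ] at this
    rcases mul_eq_zero.mp this with h | h
    · exact hU₀det h
    · exact hU₀det ((map_eq_zero τ).mp h)
  have hc2 : U₀.map τ * U₀ = c • (1 : Matrix ι ι F) := by
    have h1 : U₀ * (c⁻¹ • U₀.map τ) = 1 := by
      rw [Matrix.mul_smul, hc, smul_smul, inv_mul_cancel₀ hc0, one_smul]
    have h2 := _root_.mul_eq_one_comm.mp h1
    rw [Matrix.smul_mul] at h2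
    calc U₀.map τ * U₀ = c • (c⁻¹ • (U₀.map τ * U₀)) := by
          rw [smul_smul, mul_inv_cancel₀ hc0, one_smul]
      _ = c • (1 : Matrix ι ι F) := by rw [h2]
  have hτc : τ c = c := by
    have h1 := congrArg (fun M : Matrix ι ι F => M.map τ) hc
    simp only [Matrix.map_mul, map_map_invol τ hτ] at h1
    rw [hc2] at h1
    obtain ⟨i⟩ := ‹Nonempty ι›
    have := congrFun (congrFun h1 i) i
    simp at this
    exact this.symm
  have hτci : τ c⁻¹ = c⁻¹ := by rw [map_inv₀, hτc]
  obtain ⟨l, hl⟩ := norm_surj τ h2 ζ hζ0 hζ c⁻¹ hτci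
  set U : Matrix ι ι F := l • U₀ with hUdef
  have hUU : U * U.map τ = 1 := by
    rw [hUdef, map_smul_hom, Matrix.smul_mul, Matrix.mul_smul, smul_smul, hc, smul_smul,
      hl, inv_mul_cancel₀ hc0, one_smul]
  have hXU : ∀ x ∈ N, (x : Matrix ι ι F) * U = U * (x : Matrix ι ι F).map τ := by
    intro x hx
    rw [hUdef, Matrix.mul_smul, Matrix.smul_mul, hkey x hx]
  obtain ⟨C, hC⟩ := hilbert90 τ hτ h2 ζ hζ0 hζ U hUU
  refine ⟨⟨C⁻¹, ?_⟩, ?_⟩
  · rintro s ⟨x, hx, rfl⟩ i j
    show τ _ = _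
    rw [inv_inv]
    set Cm : Matrix ι ι F := (C : Matrix ι ι F) with hCm
    set Ci : Matrix ι ι F := ((C⁻¹ : GL ι F) : Matrix ι ι F) with hCi
    set X : Matrix ι ι F := (x : Matrix ι ι F) with hX
    have c1 : Cm * Ci = 1 := by rw [hCm, hCi, ← Units.val_mul, mul_inv_cancel, Units.val_one]
    have c2 : Ci * Cm = 1 := by rw [hCm, hCi, ← Units.val_mul, inv_mul_cancel, Units.val_one]
    have c1τ : Cm.map τ * Ci.map τ = 1 := by
      rw [← Matrix.map_mul, c1]
      ext a b
      simp [Matrix.one_apply]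
    have c2τ : Ci.map τ * Cm.map τ = 1 := _root_.mul_eq_one_comm.mp c1τ
    have hU' : U = Cm * Ci.map τ := by
      calc U = U * (Cm.map τ * Ci.map τ) := by rw [c1τ, Matrix.mul_one]
        _ = (U * Cm.map τ) * Ci.map τ := (Matrix.mul_assoc _ _ _).symm
        _ = Cm * Ci.map τ := by rw [hC]
    have h1 := hXU x hx
    rw [hU'] at h1
    have hY : (Ci * X * Cm).map τ = Ci * X * Cm := by
      rw [Matrix.map_mul, Matrix.map_mul]
      calc Ci.map τ * X.map τ * Cm.map τ
          = (Ci * Cm) * Ci.map τ * X.map τ * Cm.map τ := by rw [c2, Matrix.one_mul]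
        _ = Ci * (Cm * Ci.map τ * X.map τ) * Cm.map τ := by simp only [Matrix.mul_assoc]
        _ = Ci * (X * (Cm * Ci.map τ)) * Cm.map τ := by rw [← h1]
        _ = Ci * X * Cm * (Ci.map τ * Cm.map τ) := by simp only [Matrix.mul_assoc]
        _ = Ci * X * Cm := by rw [c2τ, Matrix.mul_one]
    have := congrFun (congrFun hY i) j
    rw [Matrix.map_apply] at this
    exact this
  · intro htop
    obtain ⟨a, ha⟩ := hτne
    apply ha
    have : a ∈ fixedSubfield τ := by rw [htop]; trivial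
    exact this

/-- a spanning group of isometries of a symmetric form that is not realisable over a proper
subfield preserves no unitary form -/
theorem not_unitary_of_not_realisable [Finite F] [Nonempty ι] (h2 : (2 : F) ≠ 0)
    (N : Subgroup (GL ι F)) (hspan : Submodule.span F (mset N) = ⊤) (G : Matrix ι ι F)
    (hG : G.det ≠ 0)
    (hN : ∀ x ∈ N, (x : Matrix ι ι F)ᵀ * G * (x : Matrix ι ι F) = G)
    (hno : ∀ F₀ : Subfield F, F₀ ≠ ⊤ → ¬ RealisableOver F₀ (matrixSet N)) :
    ¬ ∃ (σ : F ≃+* F) (f : (ι → F) → (ι → F) → F),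
      IsUnitaryForm σ f ∧ FixesForm (matrixSet N) f := by
  rintro ⟨σ, f, hu, hfix⟩
  set τ : F →+* F := (σ : F →+* F) with hτdef
  have hτ : ∀ a, τ (τ a) = a := hu.involutive
  have hτne : ∃ a, τ a ≠ a := by
    by_contra hcon
    push_neg at hcon
    apply hu.ne_refl
    ext a
    exact hcon a
  have har : ∀ v x y, f v (x + y) = f v x + f v y := by
    intro v x y
    rw [hu.herm v (x + y), hu.add_left, map_add, ← hu.herm, ← hu.herm]
  have hsr : ∀ (c : F) (v x : ι → F), f v (c • x) = τ c * f v x := by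
    intro c v x
    rw [hu.herm v (c • x), hu.smul_left, map_mul, ← hu.herm]
    rfl
  have hf : ∀ u v, f u v = gf τ (gramMatrix f) u v :=
    eq_gf τ f hu.add_left hu.smul_left har hsr
  have hfe : f = gf τ (gramMatrix f) := by
    funext u v
    exact hf u v
  have hdet : (gramMatrix f).det ≠ 0 := by
    apply det_ne_zero_of_nondeg τ σ.surjective
    rw [← hfe]
    exact hu.nondegenerate
  have hNH : ∀ x ∈ N, (x : Matrix ι ι F)ᵀ * gramMatrix f * (x : Matrix ι ι F).map τ =
      gramMatrix f := by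
    intro x hx
    ext a b
    rw [← gf_single τ ((x : Matrix ι ι F)ᵀ * gramMatrix f * (x : Matrix ι ι F).map τ) a b,
      ← gf_mulVec, ← hf, hfix _ ⟨x, hx, rfl⟩, hf, gf_single]
  obtain ⟨hreal, hne⟩ := unitary_descent h2 N hspan G hG hN τ hτne hτ (gramMatrix f) hdet hNH
  exact hno _ hne hreal

end Cfsg.Agent.Lib.Helper5.AschO
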