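import Cfsg.Agent.Lib.Helper5.AschO.AntiAut

set_option autoImplicit false

/-! The tensor case: an adjoint-closed subalgebra `M_a(F) ⊗ 1` forces the Gram matrix to be a
Kronecker product of symmetric matrices (`a` odd). -/

namespace Cfsg.Agent.Lib.Helper5.AschO

open Module Matrix
open scoped Kronecker
open Cfsg Cfsg.Geo Cfsg.Agent.Lib.Helper8.Asch

variable {ι : Type} [Fintype ι] [DecidableEq ι] {F : Type*} [Field F]

/-- `X ↦ X ⊗ 1` as an algebra homomorphism -/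
def kronOne (a e : ℕ) (F : Type*) [Field F] :
    Matrix (Fin a) (Fin a) F →ₐ[F] Matrix (Fin a × Fin e) (Fin a × Fin e) F :=
  AlgHom.ofLinearMap
    { toFun := fun X => X ⊗ₖ (1 : Matrix (Fin e) (Fin e) F)
      map_add' := fun X Y => Matrix.add_kronecker X Y 1
      map_smul' := fun c X => Matrix.smul_kronecker c X 1 }
    Matrix.one_kronecker_one
    (by
      intro X Y
      show (X * Y) ⊗ₖ (1 : Matrix (Fin e) (Fin e) F) = (X ⊗ₖ 1) * (Y ⊗ₖ 1)
      rw [← Matrix.mul_kronecker_mul, Matrix.one_mul])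

theorem kronOne_apply (a e : ℕ) (X : Matrix (Fin a) (Fin a) F) :
    kronOne a e F X = X ⊗ₖ (1 : Matrix (Fin e) (Fin e) F) := rfl

theorem tensor_gram {G : Matrix ι ι F} (hG : G.det ≠ 0) (hs : Gᵀ = G) (h2 : (2 : F) ≠ 0)
    {a e : ℕ} (ha : Odd a) (he : 0 < e) (b : Basis (Fin a × Fin e) F (ι → F))
    (A : Subalgebra F (Module.End F (ι → F)))
    (hb1 : ∀ x ∈ A, ∃ X : Matrix (Fin a) (Fin a) F,
      LinearMap.toMatrix b b x = X ⊗ₖ (1 : Matrix (Fin e) (Fin e) F))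
    (hb2 : ∀ X : Matrix (Fin a) (Fin a) F, ∃ x ∈ A,
      LinearMap.toMatrix b b x = X ⊗ₖ (1 : Matrix (Fin e) (Fin e) F))
    (hadj : ∀ x ∈ A, adj G x ∈ A) :
    ∃ (S : Matrix (Fin a) (Fin a) F) (T : Matrix (Fin e) (Fin e) F),
      gramB G b = S ⊗ₖ T ∧ Sᵀ = S ∧ Tᵀ = T ∧ S.det ≠ 0 ∧ T.det ≠ 0 := by
  have ha0 : 0 < a := ha.pos
  haveI : Nonempty (Fin a) := ⟨⟨0, ha0⟩⟩
  haveI : Nonempty (Fin e) := ⟨⟨0, he⟩⟩
  set B := gramB G b with hB
  have hBdet : B.det ≠ 0 := gramB_det hG b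
  have hBs : Bᵀ = B := gramB_symm hs b
  have hΨinj : Function.Injective (kronOne a e F) := by
    intro X Y hXY
    exact kron_one_injective hXY
  have hex : ∀ X, ∃ X', B * kronOne a e F X' = (kronOne a e F X)ᵀ * B := by
    intro X
    obtain ⟨x, hx, hxX⟩ := hb2 X
    obtain ⟨X', hX'⟩ := hb1 _ (hadj x hx)
    refine ⟨X', ?_⟩
    rw [kronOne_apply, kronOne_apply, ← hX', ← hxX]
    exact toMatrix_adj hG b x
  obtain ⟨U, hU, hUs⟩ := antiaut (kronOne a e F) hΨinj B hBdet hBs hex h2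
    (by rw [Fintype.card_fin]; exact ha)
  set Um : Matrix (Fin a) (Fin a) F := (U : Matrix (Fin a) (Fin a) F) with hUm
  set Ui : Matrix (Fin a) (Fin a) F := ((U⁻¹ : GL (Fin a) F) : Matrix (Fin a) (Fin a) F) with hUi
  have u1 : Um * Ui = 1 := by rw [hUm, hUi, ← Units.val_mul, mul_inv_cancel, Units.val_one]
  have u2 : Ui * Um = 1 := by rw [hUm, hUi, ← Units.val_mul, inv_mul_cancel, Units.val_one]
  set C := B * (Um ⊗ₖ (1 : Matrix (Fin e) (Fin e) F)) with hC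
  have hCcomm : ∀ Y : Matrix (Fin a) (Fin a) F,
      C * (Y ⊗ₖ (1 : Matrix (Fin e) (Fin e) F)) = (Y ⊗ₖ (1 : Matrix (Fin e) (Fin e) F)) * C := by
    intro Y
    have h1 := hU Yᵀ
    rw [Matrix.transpose_transpose, kronOne_apply, kronOne_apply] at h1
    have h3 : (Yᵀ ⊗ₖ (1 : Matrix (Fin e) (Fin e) F))ᵀ = Y ⊗ₖ (1 : Matrix (Fin e) (Fin e) F) := by
      rw [← Matrix.kroneckerMap_transpose, Matrix.transpose_transpose, Matrix.transpose_one]
    rw [h3] at h1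
    calc C * (Y ⊗ₖ (1 : Matrix (Fin e) (Fin e) F))
        = B * ((Um * Y) ⊗ₖ (1 : Matrix (Fin e) (Fin e) F)) := by
          rw [hC, Matrix.mul_assoc, ← Matrix.mul_kronecker_mul, Matrix.one_mul]
      _ = B * (((Um * Y * Ui) * Um) ⊗ₖ (1 : Matrix (Fin e) (Fin e) F)) := by
          rw [Matrix.mul_assoc (Um * Y), u2, Matrix.mul_one]
      _ = B * ((Um * Y * Ui) ⊗ₖ (1 : Matrix (Fin e) (Fin e) F)) *
            (Um ⊗ₖ (1 : Matrix (Fin e) (Fin e) F)) := by
          rw [Matrix.mul_assoc B, ← Matrix.mul_kronecker_mul, Matrix.one_mul]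
      _ = (Y ⊗ₖ (1 : Matrix (Fin e) (Fin e) F)) * C := by
          rw [h1, hC, Matrix.mul_assoc]
  obtain ⟨T, hT⟩ := commute_kron_one C hCcomm
  have hBST : B = Ui ⊗ₖ T := by
    calc B = B * ((Um * Ui) ⊗ₖ (1 : Matrix (Fin e) (Fin e) F)) := by
          rw [u1, Matrix.one_kronecker_one, Matrix.mul_one]
      _ = C * (Ui ⊗ₖ (1 : Matrix (Fin e) (Fin e) F)) := by
          rw [hC, Matrix.mul_assoc, ← Matrix.mul_kronecker_mul, Matrix.one_mul]
      _ = Ui ⊗ₖ T := by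
          rw [hT, ← Matrix.mul_kronecker_mul, Matrix.one_mul, Matrix.mul_one]
  have hUis : Uiᵀ = Ui := by
    have h1 : Uiᵀ * Um = 1 := by
      rw [← hUs, ← Matrix.transpose_mul, u1, Matrix.transpose_one]
    calc Uiᵀ = Uiᵀ * (Um * Ui) := by rw [u1, Matrix.mul_one]
      _ = (Uiᵀ * Um) * Ui := by rw [Matrix.mul_assoc]
      _ = Ui := by rw [h1, Matrix.one_mul]
  have hUidet : Ui.det ≠ 0 := Matrix.GeneralLinearGroup.det_ne_zero U⁻¹
  have hUi0 : ∃ i i', Ui i i' ≠ 0 := by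
    by_contra hcon
    push Not at hcon
    apply hUidet
    have : Ui = 0 := by ext i i'; exact hcon i i'
    rw [this]
    exact Matrix.det_zero
  have hTs : Tᵀ = T := by
    obtain ⟨i, i', hii'⟩ := hUi0
    have h1 : (Ui ⊗ₖ T)ᵀ = Ui ⊗ₖ T := by rw [← hBST]; exact hBs
    rw [← Matrix.kroneckerMap_transpose, hUis] at h1
    ext j j'
    have := congrFun (congrFun h1 (i, j)) (i', j')
    rw [Matrix.kroneckerMap_apply, Matrix.kroneckerMap_apply] at this
    exact mul_left_cancel₀ hii' this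
  have hTdet : T.det ≠ 0 := by
    intro h0
    apply hBdet
    rw [hBST, Matrix.det_kronecker, h0]
    simp only [Fintype.card_fin]
    rw [zero_pow ha0.ne', mul_zero]
  exact ⟨Ui, T, hBST, hUis, hTs, hUidet, hTdet⟩

end Cfsg.Agent.Lib.Helper5.AschO
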