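import Mathlib
import Cfsg.Agent.Lib.Helper5.AschO.Wreath
import Cfsg.Agent.Lib.Helper5.AschO.Reducible
import Cfsg.Agent.Lib.Helper5.OrthFrameThree

set_option autoImplicit false

/-! Orthogonal frames from monomial groups, and the exceptional case of a tensor power of
three-dimensional spaces over the field with three elements. -/

namespace Cfsg.Agent.Lib.Helper5.AschO

open Module Matrix QuadraticMap
open Cfsg Cfsg.Geo Cfsg.Agent.Lib.Helper8.Asch

variable {ι : Type} [Fintype ι] [DecidableEq ι] {F : Type*} [Field F]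

/-- a group permuting the lines of an orthonormal-up-to-scalar basis stabilises the frame -/
theorem frame_decomp (Q : QuadraticForm F (ι → F)) (h2 : (2 : F) ≠ 0)
    {κ : Type} [Fintype κ] [DecidableEq κ] (hκ : 1 < Fintype.card κ)
    (b : Basis κ F (ι → F)) (c : F) (hc : c ≠ 0)
    (hB : gramB (gramQ Q) b = c • (1 : Matrix κ κ F)) (H : Subgroup (GL ι F))
    (hmono : ∀ h ∈ H, ∀ g : κ, ∃ (g' : κ) (d : F), d ≠ 0 ∧
      (h : Matrix ι ι F) *ᵥ b g = d • b g') :
    ∃ (t : ℕ) (D : Fin t → Submodule F (ι → F)),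
      IsOrthogonalMDecomposition (⇑Q) 1 D ∧ H ≤ decompositionStabilizer D := by
  classical
  set G := gramQ Q with hG
  let eκ : Fin (Fintype.card κ) ≃ κ := (Fintype.equivFin κ).symm
  let v : Fin (Fintype.card κ) → ι → F := fun j => b (eκ j)
  have hv0 : ∀ j, v j ≠ 0 := fun j => b.ne_zero _
  have hvv : ∀ j, bf G (v j) (v j) = c := by
    intro j
    rw [← gramB_apply, hB]
    simp
  have hvw : ∀ i j, i ≠ j → bf G (v i) (v j) = 0 := by
    intro i j hij
    rw [← gramB_apply, hB]
    simp [Matrix.one_apply_ne (fun h => hij (eκ.injective h))]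
  have hpolar : polar ⇑Q = bf G := by
    funext u w
    exact polar_eq_bf Q u w
  refine ⟨Fintype.card κ, fun j => F ∙ v j,
    ⟨⟨⟨hκ, one_pos, fun j => finrank_span_singleton (hv0 j), ?_, ?_⟩, ?_, ?_⟩, ?_⟩, ?_⟩
  · exact (b.linearIndependent.comp eκ eκ.injective).iSupIndep_span_singleton
  · rw [← Submodule.span_range_eq_iSup]
    have h1 : Set.range v = Set.range b := by
      ext x
      constructor
      · rintro ⟨j, rfl⟩
        exact ⟨eκ j, rfl⟩
      · rintro ⟨g, rfl⟩
        exact ⟨eκ.symm g, by simp [v]⟩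
    rw [h1, b.span_eq]
  · intro i w hw hw0
    obtain ⟨a, rfl⟩ := Submodule.mem_span_singleton.mp hw
    have ha : a ≠ 0 := by
      rintro rfl
      exact hw0 (zero_smul _ _)
    refine ⟨⟨v i, Submodule.mem_span_singleton_self _, ?_⟩,
      ⟨v i, Submodule.mem_span_singleton_self _, ?_⟩⟩
    · rw [hpolar, bf_smul_right, hvv]
      exact mul_ne_zero ha hc
    · rw [hpolar, bf_smul_left, hvv]
      exact mul_ne_zero ha hc
  · intro i j hij u hu w hw
    obtain ⟨a, rfl⟩ := Submodule.mem_span_singleton.mp hu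
    obtain ⟨a', rfl⟩ := Submodule.mem_span_singleton.mp hw
    rw [hpolar, bf_smul_left, bf_smul_right, hvw i j hij, mul_zero, mul_zero]
  · intro i j
    let e : (F ∙ v i) ≃ₗ[F] (F ∙ v j) :=
      (LinearEquiv.toSpanNonzeroSingleton F (ι → F) (v i) (hv0 i)).symm.trans
        (LinearEquiv.toSpanNonzeroSingleton F (ι → F) (v j) (hv0 j))
    refine ⟨e, fun w => ?_⟩
    set a := (LinearEquiv.toSpanNonzeroSingleton F (ι → F) (v i) (hv0 i)).symm w with ha
    have h1 : a • v i = (w : ι → F) :=
      LinearEquiv.toSpanNonzeroSingleton_symm_apply_smul F (ι → F) (v i) (hv0 i) w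
    have h3 : ((e w : (F ∙ v j)) : ι → F) = a • v j := by
      simp [e, LinearEquiv.toSpanNonzeroSingleton_apply, ha]
    rw [h3, ← h1, QuadraticMap.map_smul, QuadraticMap.map_smul, Q_eq_half Q h2 (v j),
      Q_eq_half Q h2 (v i), hvv, hvv]
  · intro h hh
    choose π d hd hπ using hmono h hh
    have hinj : Function.Injective π := by
      intro g₁ g₂ h12
      by_contra hne
      have e1 := hπ g₁
      have e2 := hπ g₂
      rw [h12] at e1
      have h3 : (h : Matrix ι ι F) *ᵥ (d g₂ • b g₁ - d g₁ • b g₂) = 0 := by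
        rw [Matrix.mulVec_sub, Matrix.mulVec_smul, Matrix.mulVec_smul, e1, e2, smul_smul,
          smul_smul, mul_comm, sub_self]
      have h4 : d g₂ • b g₁ - d g₁ • b g₂ = 0 := by
        have := congrArg (fun z => ((h⁻¹ : GL ι F) : Matrix ι ι F) *ᵥ z) h3
        simp only [Matrix.mulVec_mulVec, ← Units.val_mul, inv_mul_cancel, Units.val_one,
          Matrix.one_mulVec, Matrix.mulVec_zero] at this
        exact this
      have h5 := congrArg (fun z => b.repr z g₁) h4
      simp only [map_sub, map_smul, Basis.repr_self, Finsupp.coe_sub, Finsupp.coe_smul,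
        Pi.sub_apply, Pi.smul_apply, Finsupp.single_apply, smul_eq_mul, if_true,
        if_neg (Ne.symm hne), mul_one, mul_zero, sub_zero, map_zero, Finsupp.coe_zero,
        Pi.zero_apply] at h5
      exact hd g₂ h5
    let πe : Equiv.Perm κ := Equiv.ofBijective π (Finite.injective_iff_bijective.mp hinj)
    refine ⟨eκ.trans (πe.trans eκ.symm), fun j => ?_⟩
    show (F ∙ v j).map (Matrix.toLin' (h : Matrix ι ι F)) = F ∙ v _
    rw [Submodule.map_span, Set.image_singleton, Matrix.toLin'_apply]
    have h6 : (h : Matrix ι ι F) *ᵥ v j = d (eκ j) • b (π (eκ j)) := hπ (eκ j)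
    rw [h6, Submodule.span_singleton_smul_eq (IsUnit.mk0 _ (hd _))]
    congr 2
    simp [v, πe]

/-- a pure tensor equal to one has scalar factors -/
theorem ptM_eq_one_scalar {t k : ℕ} (Xs : Fin t → Matrix (Fin k) (Fin k) F)
    (h : ptM Xs = 1) (i : Fin t) : ∃ l : F, Xs i = l • (1 : Matrix (Fin k) (Fin k) F) := by
  classical
  by_cases hk : k = 0
  · subst hk
    refine ⟨0, ?_⟩
    ext a
    exact a.elim0
  let a₀ : Fin k := ⟨0, Nat.pos_of_ne_zero hk⟩
  let f : Fin k → (Fin t → Fin k) := fun α => Function.update (fun _ => a₀) i α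
  set p : F := ∏ j ∈ Finset.univ.erase i, Xs j a₀ a₀ with hp
  have hent : ∀ α β, Xs i α β * p = if α = β then 1 else 0 := by
    intro α β
    have h1 := congrFun (congrFun h (f α)) (f β)
    rw [ptM_apply, ← Finset.mul_prod_erase Finset.univ _ (Finset.mem_univ i)] at h1
    have h2 : ∏ j ∈ Finset.univ.erase i, Xs j (f α j) (f β j) = p := by
      refine Finset.prod_congr rfl fun j hj => ?_
      have hji : j ≠ i := Finset.ne_of_mem_erase hj
      simp only [f, Function.update_of_ne hji]
    rw [h2] at h1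
    have h3 : f α i = α := by simp [f]
    have h4 : f β i = β := by simp [f]
    rw [h3, h4] at h1
    rw [h1, Matrix.one_apply]
    have h5 : f α = f β ↔ α = β := by
      constructor
      · intro h
        have := congrFun h i
        rwa [h3, h4] at this
      · rintro rfl
        rfl
    simp only [h5]
  have hp0 : p ≠ 0 := by
    intro h0
    have := hent a₀ a₀
    rw [h0, mul_zero, if_pos rfl] at this
    exact zero_ne_one this
  refine ⟨p⁻¹, ?_⟩
  ext α β
  rw [Matrix.smul_apply, Matrix.one_apply, smul_eq_mul]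
  have := hent α β
  field_simp
  rw [this]

/-- orthogonal-up-to-scalar matrices of size three over the field with three elements -/
theorem mono3 [Fintype F] (hq : Fintype.card F = 3) (X : Matrix (Fin 3) (Fin 3) F) (l : F)
    (hX : Xᵀ * X = l • (1 : Matrix (Fin 3) (Fin 3) F)) (hl : l ≠ 0) :
    ∀ β, ∃ α, X α β ≠ 0 ∧ ∀ α', α' ≠ α → X α' β = 0 := by
  have hdet : X.det * X.det = l ^ 3 := by
    have := congrArg Matrix.det hX
    rw [Matrix.det_mul, Matrix.det_transpose, Matrix.det_smul, Matrix.det_one, mul_one,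
      Fintype.card_fin] at this
    exact this
  have hl3 : l ^ 3 = l := by
    rcases OrthFrameThree.cases3 hq l with rfl | rfl | rfl
    · simp
    · simp
    · ring
  rw [hl3] at hdet
  have hl1 : l = 1 := by
    rcases OrthFrameThree.cases3 hq X.det with h | h | h
    · rw [h, mul_zero] at hdet
      exact absurd hdet.symm hl
    · rw [h, mul_one] at hdet
      exact hdet.symm
    · rw [h] at hdet
      rw [← hdet]
      ring
  intro β
  have hcol : X 0 β * X 0 β + X 1 β * X 1 β + X 2 β * X 2 β = 1 := by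
    have := congrFun (congrFun hX β) β
    rw [Matrix.mul_apply, Fin.sum_univ_three, hl1, one_smul, Matrix.one_apply_eq] at this
    simpa [Matrix.transpose_apply] using this
  rcases OrthFrameThree.sq_sum3 hq _ _ _ hcol with ⟨h0, h1, h2'⟩ | ⟨h0, h1, h2'⟩ | ⟨h0, h1, h2'⟩
  · refine ⟨0, h0, fun α' hα' => ?_⟩
    fin_cases α'
    · exact absurd rfl hα'
    · exact h1
    · exact h2'
  · refine ⟨1, h1, fun α' hα' => ?_⟩
    fin_cases α'
    · exact h0
    · exact absurd rfl hα'
    · exact h2'
  · refine ⟨2, h2', fun α' hα' => ?_⟩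
    fin_cases α'
    · exact h0
    · exact h1
    · exact absurd rfl hα'

/-- the exceptional case: a wreathed tensor power of three-dimensional spaces over the field
with three elements is monomial -/
theorem mono_of_wreath_three [Fintype F] (hq : Fintype.card F = 3) {G : Matrix ι ι F}
    {H : Subgroup (GL ι F)} (hH : OHyp G H) {t : ℕ} (b : Basis (Fin t → Fin 3) F (ι → F))
    (c : F) (hc : c ≠ 0)
    (hB : gramB G b = c • (1 : Matrix (Fin t → Fin 3) (Fin t → Fin 3) F))
    (hW : IsWreathIn H b) :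
    ∀ h ∈ H, ∀ g : Fin t → Fin 3, ∃ (g' : Fin t → Fin 3) (d : F), d ≠ 0 ∧
      (h : Matrix ι ι F) *ᵥ b g = d • b g' := by
  classical
  intro h hh g
  obtain ⟨σ, Us, hM⟩ := hW h hh
  set M := LinearMap.toMatrix b b (Matrix.toLin' (h : Matrix ι ι F)) with hMdef
  set U : Fin t → Matrix (Fin 3) (Fin 3) F :=
    fun i => ((Us i : GL (Fin 3) F) : Matrix (Fin 3) (Fin 3) F) with hU
  have hinv := gramB_invariant (G := G) b (hH.isom h hh)
  rw [hB, ← hMdef, Matrix.mul_smul, Matrix.smul_mul, Matrix.mul_one] at hinv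
  have hMM : Mᵀ * M = 1 := by
    have h1 : c • (Mᵀ * M) = c • (1 : Matrix (Fin t → Fin 3) (Fin t → Fin 3) F) := hinv
    have := congrArg (fun Z => c⁻¹ • Z) h1
    simpa [smul_smul, inv_mul_cancel₀ hc] using this
  have hUU : ptM (fun i => (U i)ᵀ * U i) = 1 := by
    rw [← ptM_mul, ← ptM_transpose]
    rw [hM] at hMM
    rw [Matrix.transpose_mul, facPerm_transpose] at hMM
    calc (ptM U)ᵀ * ptM U = (ptM U)ᵀ * (facPerm 3 F σ⁻¹ * facPerm 3 F σ) * ptM U := by
          rw [facPerm_mul, inv_mul_cancel, facPerm_one, Matrix.mul_one]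
      _ = (ptM U)ᵀ * facPerm 3 F σ⁻¹ * (facPerm 3 F σ * ptM U) := by
          simp only [Matrix.mul_assoc]
      _ = 1 := hMM
  have hl : ∀ i, ∃ l : F, (U i)ᵀ * U i = l • (1 : Matrix (Fin 3) (Fin 3) F) :=
    fun i => ptM_eq_one_scalar _ hUU i
  choose l hl using hl
  have hl0 : ∀ i, l i ≠ 0 := by
    intro i h0
    have := congrArg Matrix.det (hl i)
    rw [h0, zero_smul, Matrix.det_zero, Matrix.det_mul, Matrix.det_transpose] at this
    have hd : (U i).det ≠ 0 := Matrix.GeneralLinearGroup.det_ne_zero (Us i)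
    exact hd (mul_self_eq_zero.mp this)
  have hmono : ∀ i β, ∃ α, U i α β ≠ 0 ∧ ∀ α', α' ≠ α → U i α' β = 0 :=
    fun i => mono3 hq (U i) (l i) (hl i) (hl0 i)
  choose ρ hρ1 hρ2 using hmono
  set g' : Fin t → Fin 3 := fun i' => ρ (σ.symm i') (g (σ.symm i')) with hg'
  have hentry : ∀ f, M f g = ∏ i, U i (f (σ i)) (g i) := by
    intro f
    rw [hM, facPerm_mul_apply, ptM_apply]
    rfl
  have hne : M g' g ≠ 0 := by
    rw [hentry]
    refine Finset.prod_ne_zero_iff.mpr fun i _ => ?_
    have : g' (σ i) = ρ i (g i) := by simp [hg']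
    rw [this]
    exact hρ1 i (g i)
  have hzero : ∀ f, f ≠ g' → M f g = 0 := by
    intro f hf
    rw [hentry]
    obtain ⟨i', hi'⟩ : ∃ i', f i' ≠ g' i' := by
      by_contra hcon
      push Not at hcon
      exact hf (funext hcon)
    refine Finset.prod_eq_zero (Finset.mem_univ (σ.symm i')) ?_
    apply hρ2
    rw [Equiv.apply_symm_apply]
    exact hi'
  refine ⟨g', M g' g, hne, ?_⟩
  have h1 : (h : Matrix ι ι F) *ᵥ b g = ∑ f, M f g • b f := by
    have := (b.sum_repr ((h : Matrix ι ι F) *ᵥ b g)).symm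
    rw [this]
    refine Finset.sum_congr rfl fun f _ => ?_
    rw [hMdef, LinearMap.toMatrix_apply, Matrix.toLin'_apply]
  rw [h1, Finset.sum_eq_single g']
  · intro f _ hf
    rw [hzero f hf, zero_smul]
  · intro h
    exact absurd (Finset.mem_univ _) h

end Cfsg.Agent.Lib.Helper5.AschO
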