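import Mathlib
import Cfsg.Agent.Lib.Helper5.AschO.Classes
import Cfsg.Agent.Lib.Helper5.AschO.Tensor
import Cfsg.Agent.Lib.Helper5.AschO.Three
import Cfsg.Agent.Lib.Helper8.AschM4

set_option autoImplicit false

/-! The tensor cases (classes 4 and 7). -/

namespace Cfsg.Agent.Lib.Helper5.AschO

open Module Matrix QuadraticMap
open scoped Kronecker
open Cfsg Cfsg.Geo Cfsg.Agent.Lib.Helper8.Asch

variable {ι : Type} [Fintype ι] [DecidableEq ι] {F : Type*} [Field F]

theorem gramB_reindex {κ κ' : Type} [Fintype κ] [DecidableEq κ] [Fintype κ'] [DecidableEq κ']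
    (G : Matrix ι ι F) (b : Basis κ F (ι → F)) (ε : κ ≃ κ') (j j' : κ') :
    gramB G (b.reindex ε) j j' = gramB G b (ε.symm j) (ε.symm j') := by
  rw [gramB_apply, gramB_apply, Basis.reindex_apply, Basis.reindex_apply]

/-- a wreathed tensor power: class 7, or a frame in the exceptional case -/
theorem wreath_case [Fintype F] (Q : QuadraticForm F (ι → F)) (h2 : (2 : F) ≠ 0)
    {H : Subgroup (GL ι F)} (hH : OHyp (gramQ Q) H) (hI : H ≤ isometryGroup F ⇑Q)
    {t k : ℕ} (hk : Odd k) (hk3 : 3 ≤ k) (ht : 2 ≤ t)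
    (b : Basis (Fin t → Fin k) F (ι → F)) (c : F) (hc : c ≠ 0)
    (Ss : Fin t → Matrix (Fin k) (Fin k) F) (hSs : ∀ i, (Ss i)ᵀ = Ss i)
    (hSd : ∀ i, (Ss i).det ≠ 0) (hB : gramB (gramQ Q) b = c • ptM Ss) (hW : IsWreathIn H b) :
    ∃ M, InOClassGen (⇑Q) M ∧ H ≤ M := by
  by_cases hqk : Fintype.card F = 3 ∧ k = 3
  · obtain ⟨hq, rfl⟩ := hqk
    obtain ⟨b', c', hc', hB', hW'⟩ := wreath_normalize_to h2 hk b c hc Ss hSs hSd hB hW
      (1 : Matrix (Fin 3) (Fin 3) F) Matrix.transpose_one (by rw [Matrix.det_one]; exact one_ne_zero)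
    rw [ptM_one] at hB'
    have hmono := mono_of_wreath_three hq hH b' c' hc' hB' hW'
    have hκ : 1 < Fintype.card (Fin t → Fin 3) := by
      rw [Fintype.card_fun, Fintype.card_fin, Fintype.card_fin]
      exact Nat.one_lt_pow (by omega) (by omega)
    obtain ⟨t', D, hOD, hstab⟩ := frame_decomp Q h2 hκ b' c' hc' hB' H hmono
    exact cls2' hI (by rw [hq]; exact Nat.prime_three) hOD hstab
  · exact cls7 Q hI hk3 ht hqk (wreath_normalize h2 (by omega) hk b c hc Ss hSs hSd hB hW)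

/-- the tensor case -/
theorem tensor_case [Fintype F] [Nonempty ι] (Q : QuadraticForm F (ι → F)) (h2 : (2 : F) ≠ 0)
    (hodd : Odd (Fintype.card ι)) (hGdet : (gramQ Q).det ≠ 0)
    {H N : Subgroup (GL ι F)} (hH : OHyp (gramQ Q) H) (hI : H ≤ isometryGroup F ⇑Q)
    (hNH : N ≤ H) (hNZ : ¬ N ≤ scalars ι F) (a e : ℕ) (b : Basis (Fin a × Fin e) F (ι → F))
    (hb1 : ∀ x ∈ algOf (HV N), ∃ X : Matrix (Fin a) (Fin a) F,
      LinearMap.toMatrix b b x = X ⊗ₖ (1 : Matrix (Fin e) (Fin e) F))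
    (hb2 : ∀ X : Matrix (Fin a) (Fin a) F, ∃ x ∈ algOf (HV N),
      LinearMap.toMatrix b b x = X ⊗ₖ (1 : Matrix (Fin e) (Fin e) F))
    (hbH : ∀ h ∈ HV H, ∃ (U : GL (Fin a) F) (Γ : GL (Fin e) F),
      LinearMap.toMatrix b b (h : Module.End F (ι → F)) =
        (U : Matrix (Fin a) (Fin a) F) ⊗ₖ (Γ : Matrix (Fin e) (Fin e) F)) :
    (∃ M, InOClassGen (⇑Q) M ∧ H ≤ M) ∨ Submodule.span F (mset N) = ⊤ := by
  have hcard : Fintype.card ι = a * e := by
    have h1 := Module.finrank_eq_card_basis b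
    rw [Module.finrank_fintype_fun_eq_card, Fintype.card_prod, Fintype.card_fin,
      Fintype.card_fin] at h1
    exact h1
  have hH' : ∀ h ∈ H, ∃ (U : GL (Fin a) F) (Γ : GL (Fin e) F),
      LinearMap.toMatrix b b (Matrix.toLin' (h : Matrix ι ι F)) =
        (U : Matrix (Fin a) (Fin a) F) ⊗ₖ (Γ : Matrix (Fin e) (Fin e) F) := by
    intro h hh
    obtain ⟨U, Γ, hUΓ⟩ := hbH (toV h) (mem_HV hh)
    rw [toV_val] at hUΓ
    exact ⟨U, Γ, hUΓ⟩
  have hae : Odd (a * e) := by rw [← hcard]; exact hodd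
  have haodd : Odd a := (Nat.odd_mul.mp hae).1
  have heodd : Odd e := (Nat.odd_mul.mp hae).2
  by_cases ha1 : a = 1
  · exfalso
    apply hNZ
    subst ha1
    intro g hg
    obtain ⟨X, hX⟩ := hb1 _ (mem_algOf (mem_HV hg))
    rw [toV_val] at hX
    have h1 : X ⊗ₖ (1 : Matrix (Fin e) (Fin e) F) = (X 0 0) • (1 : Matrix (Fin 1 × Fin e) _ F) := by
      ext ⟨i, j⟩ ⟨i', j'⟩
      rw [Matrix.kroneckerMap_apply, Matrix.smul_apply, Matrix.one_apply, Matrix.one_apply,
        Subsingleton.elim i 0, Subsingleton.elim i' 0]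
      simp only [Prod.mk.injEq, true_and, smul_eq_mul]
    have h2' : Matrix.toLin' (g : Matrix ι ι F) = (X 0 0) • (1 : Module.End F (ι → F)) := by
      apply (LinearMap.toMatrix b b).injective
      rw [hX, h1, map_smul]
      congr 1
      exact (LinearMap.toMatrix_one b).symm
    have h3 : (g : Matrix ι ι F) = (X 0 0) • (1 : Matrix ι ι F) := by
      apply Matrix.toLin'.injective
      rw [h2', map_smul, Matrix.toLin'_one]
      rfl
    have hc : X 0 0 ≠ 0 := by
      intro h0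
      rw [h0, zero_smul] at h3
      have : (1 : Matrix ι ι F) = 0 := by
        rw [← Units.inv_mul g, h3, mul_zero]
      exact one_ne_zero this
    rw [mem_scalars_iff]
    exact ⟨Units.mk0 _ hc, h3⟩
  by_cases he1 : e = 1
  · right
    subst he1
    rw [eq_top_iff]
    intro M _
    rw [← mem_algOf_HV_iff]
    set Y := LinearMap.toMatrix b b (Matrix.toLin' M) with hY
    obtain ⟨x, hx, hxX⟩ := hb2 (Matrix.of fun i i' => Y (i, 0) (i', 0))
    have : x = Matrix.toLin' M := by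
      apply (LinearMap.toMatrix b b).injective
      rw [hxX, ← hY]
      ext ⟨i, j⟩ ⟨i', j'⟩
      rw [Subsingleton.elim j 0, Subsingleton.elim j' 0]
      simp only [Matrix.kroneckerMap_apply, Matrix.of_apply, Matrix.one_apply_eq, mul_one]
    rw [← this]
    exact hx
  left
  have ha3 : 3 ≤ a := by
    obtain ⟨j, hj⟩ := haodd
    omega
  have he3 : 3 ≤ e := by
    obtain ⟨j, hj⟩ := heodd
    omega
  have hadj := adj_mem_algOf hGdet (hH.mono hNH)
  obtain ⟨S, T, hB, hS, hT, hSd, hTd⟩ := tensor_gram hGdet (gramQ_symm Q) h2 haodd (by omega)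
    b (algOf (HV N)) hb1 hb2 hadj
  rcases lt_trichotomy a e with hlt | heq | hgt
  · exact cls4 Q hI ha3 hlt b S T hS hT hSd hTd hB hH'
  · subst heq
    let ε : Fin a × Fin a ≃ (Fin 2 → Fin a) := (finTwoArrowEquiv (Fin a)).symm
    refine wreath_case Q h2 hH hI haodd ha3 (le_refl 2) (b.reindex ε) 1 one_ne_zero ![S, T]
      ?_ ?_ ?_ ?_
    · intro i
      fin_cases i
      · exact hS
      · exact hT
    · intro i
      fin_cases i
      · exact hSd
      · exact hTd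
    · ext f g
      rw [gramB_reindex, hB, one_smul, ptM_apply, Fin.prod_univ_two]
      rfl
    · intro h hh
      obtain ⟨U, Γ, hUΓ⟩ := hH' h hh
      refine ⟨1, ![U, Γ], ?_⟩
      rw [facPerm_one, one_mul]
      ext f g
      rw [toMatrix_reindex, hUΓ, ptM_apply, Fin.prod_univ_two]
      rfl
  · let ε : Fin a × Fin e ≃ Fin e × Fin a := Equiv.prodComm _ _
    refine cls4 Q hI he3 hgt (b.reindex ε) T S hT hS hTd hSd ?_ ?_
    · ext ⟨p, q⟩ ⟨p', q'⟩
      rw [gramB_reindex, hB, Matrix.kroneckerMap_apply]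
      show S q q' * T p p' = _
      rw [mul_comm]
      rfl
    · intro h hh
      obtain ⟨U, Γ, hUΓ⟩ := hH' h hh
      refine ⟨Γ, U, ?_⟩
      ext ⟨p, q⟩ ⟨p', q'⟩
      rw [toMatrix_reindex, hUΓ, Matrix.kroneckerMap_apply]
      show (U : Matrix (Fin a) (Fin a) F) q q' * (Γ : Matrix (Fin e) (Fin e) F) p p' = _
      rw [mul_comm]
      rfl

end Cfsg.Agent.Lib.Helper5.AschO
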