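import Mathlib
import Cfsg.Agent.Lib.Helper5.AschO.Main3
import Cfsg.Agent.Lib.Helper5.AschO.CaseB
import Cfsg.Agent.Lib.Helper5.AschO.FormDescent
import Cfsg.Agent.Lib.Helper5.AschO.Descent
import Cfsg.Agent.Lib.Helper8.AschS1

set_option autoImplicit false

/-! The absolutely irreducible case: classes 5 and 7, or the residual class. -/

namespace Cfsg.Agent.Lib.Helper5.AschO

open Module Matrix QuadraticMap
open scoped commutatorElement
open Cfsg Cfsg.Geo Cfsg.Agent.Lib.Helper8.Asch

variable {ι : Type} [Fintype ι] [DecidableEq ι] {F : Type*} [Field F]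

theorem span_case [Fintype F] [Nonempty ι] (Q : QuadraticForm F (ι → F)) (h2 : (2 : F) ≠ 0)
    (hodd : Odd (Fintype.card ι)) (h3 : 3 ≤ Fintype.card ι) (hGdet : (gramQ Q).det ≠ 0)
    (hGK : ∀ K : Subfield F, (gramQ Q).det ∈ K)
    {H N : Subgroup (GL ι F)} (hH : OHyp (gramQ Q) H) (hI : H ≤ isometryGroup F ⇑Q)
    (hN : IsMinNC H (Zs ι F) N) (hspan : Submodule.span F (mset N) = ⊤) :
    (∃ M, InOClassGen (⇑Q) M ∧ H ≤ M) ∨ InOrthogonalResidualClass H := by
  have hs := gramQ_symm Q
  have hZs : Zs ι F = scalars ι F := Zs_eq_scalars_gen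
  rcases comm_dichotomy hN with hc | hperf
  · exfalso
    apply hN.not_le
    intro x hx
    have hcomm : ∀ X ∈ mset N, (x : Matrix ι ι F) * X = X * (x : Matrix ι ι F) := by
      rintro X ⟨y, hy, rfl⟩
      have h1 : ⁅x, y⁆ ∈ ⁅N, N⁆ := Subgroup.commutator_mem_commutator hx hy
      have h2' : ⁅x, y⁆ ∈ Zs ι F := hc h1
      have h3' : ⁅x, y⁆ ∈ H := hN.le ((Subgroup.commutator_le_self N) h1)
      rw [hZs] at h2'
      have h4 := hH.mem_scalars_imp hGdet hodd h3' h2'
      have h5 : x * y = y * x := commutatorElement_eq_one_iff_mul_comm.mp h4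
      show (x : Matrix ι ι F) * (y : Matrix ι ι F) = (y : Matrix ι ι F) * (x : Matrix ι ι F)
      rw [← Units.val_mul, h5, Units.val_mul]
    obtain ⟨c, hc'⟩ := scalar_of_commute_span hspan hcomm
    rw [hZs]
    exact mem_scalars_of_eq_smul_gen hc'
  rcases caseB_structure Zs_le_center hN hperf with hmin |
    ⟨k, P, hk, -, hPN, -, hcomm, hgen, hperm, htrans⟩
  · rw [hZs] at hmin
    have hNiso : ∀ x ∈ N, (x : Matrix ι ι F)ᵀ * gramQ Q * (x : Matrix ι ι F) = gramQ Q :=
      fun x hx => hH.isom x (hN.le hx)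
    by_cases h1 : ∃ F₀ : Subfield F, F₀ ≠ ⊤ ∧ RealisableOver F₀ (matrixSet N)
    · left
      obtain ⟨F₀, hF₀, B, hB⟩ := h1
      obtain ⟨K, r, hle, hr, hcard⟩ := exists_max_subfield F₀ hF₀
      have hreal : RealisableOver K (matrixSet N) := ⟨B, fun s hs i j => hle (hB s hs i j)⟩
      obtain ⟨P, hP, hHP⟩ := class5_of_realisable Q h2 hodd hGdet K (hGK K) H N hN.inv hspan
        hNiso hreal
      exact cls5 hI hr hcard hP hHP
    · right
      push Not at h1
      exact ⟨N, residual_core_gen H N hN.le hN.inv hspan hperf hmin h1,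
        not_unitary_of_not_realisable h2 N hspan (gramQ Q) hGdet hNiso h1⟩
  · left
    obtain ⟨m, b, hm, hbA, hW⟩ :=
      wreath_of_caseB_gen H N hspan k P hk hPN hcomm hgen hperm htrans
    have hcard : Fintype.card ι = m ^ k := by
      have h1 := Module.finrank_eq_card_basis b
      rw [Module.finrank_fintype_fun_eq_card, Fintype.card_fun, Fintype.card_fin,
        Fintype.card_fin] at h1
      exact h1
    have hmodd : Odd m := by
      by_contra hne
      rw [Nat.not_odd_iff_even] at hne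
      have hev : Even (m ^ k) := hne.pow_of_ne_zero (by omega)
      rw [hcard] at hodd
      exact (Nat.not_even_iff_odd.mpr hodd) hev
    have hm3 : 3 ≤ m := by
      obtain ⟨j, hj⟩ := hmodd
      rcases Nat.eq_zero_or_pos j with h0 | h0
      · subst h0
        rw [hj] at hcard
        simp at hcard
        omega
      · omega
    obtain ⟨c, Ss, hc, hSs, hSd, hB⟩ := wreath_gram hGdet hs h2 hmodd b
      (fun i => algOf (HV (P i))) (fun i => (hbA i).1) (fun i => (hbA i).2)
      (fun i => adj_mem_algOf hGdet (hH.mono ((hPN i).trans hN.le)))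
    exact wreath_case Q h2 hH hI hmodd hm3 hk b c hc Ss hSs hSd hB hW

end Cfsg.Agent.Lib.Helper5.AschO
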