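import Mathlib
import Cfsg.Agent.Lib.Helper5.AschO.Main1
import Cfsg.Agent.Lib.Helper5.AschO.Main2
import Cfsg.Agent.Lib.Helper5.AschO.Main4
import Cfsg.Agent.Lib.Helper8.Asch10

set_option autoImplicit false

/-! Assembly of the subgroup structure theorem for odd-dimensional orthogonal groups, for a
general index type. -/

namespace Cfsg.Agent.Lib.Helper5.AschO

open Module Matrix QuadraticMap
open scoped Kronecker
open Cfsg Cfsg.Geo Cfsg.Agent.Lib.Helper8.Asch

variable {ι : Type} [Fintype ι] [DecidableEq ι] {F : Type*} [Field F]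

theorem not_le_Zs_of_irr [Nonempty ι] (hn : 2 ≤ Fintype.card ι) (H : Subgroup (GL ι F))
    (hirr : Irr (HV H)) : ¬ H ≤ Zs ι F := by
  intro hle
  let i₀ : ι := Classical.arbitrary ι
  set v : ι → F := Pi.single i₀ 1 with hv
  have hv0 : v ≠ 0 := by
    intro h0
    have := congrFun h0 i₀
    rw [hv, Pi.single_eq_same, Pi.zero_apply] at this
    exact one_ne_zero this
  have hinv : ∀ u ∈ HV H, ∀ w ∈ Submodule.span F {v},
      (u : Module.End F (ι → F)) w ∈ Submodule.span F {v} := by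
    intro u hu w hw
    obtain ⟨g, hg, rfl⟩ := exists_of_mem_HV hu
    rw [toV_apply]
    obtain ⟨c, hc⟩ := mem_Zs.mp (hle hg)
    rw [hc, Matrix.smul_mulVec, Matrix.one_mulVec]
    exact Submodule.smul_mem _ _ hw
  rcases hirr (Submodule.span F {v}) hinv with hbot | htop
  · apply hv0
    have : v ∈ Submodule.span F {v} := Submodule.mem_span_singleton_self v
    rw [hbot] at this
    exact (Submodule.mem_bot F).mp this
  · have h1 : finrank F (Submodule.span F {v}) = 1 := finrank_span_singleton hv0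
    rw [htop, finrank_top, Module.finrank_fintype_fun_eq_card] at h1
    omega

theorem orth_main_gen [Fintype F] [Nonempty ι] (Q : QuadraticForm F (ι → F))
    (h2 : (2 : F) ≠ 0) (hodd : Odd (Fintype.card ι)) (h3 : 3 ≤ Fintype.card ι)
    (hGdet : (gramQ Q).det ≠ 0) (hGK : ∀ K : Subfield F, (gramQ Q).det ∈ K)
    (H : Subgroup (GL ι F)) (hHΩ : H ≤ omegaGL ⇑Q) :
    (∃ M, InOClassGen (⇑Q) M ∧ H ≤ M) ∨ InOrthogonalResidualClass H := by
  have hH : OHyp (gramQ Q) H := OHyp.of_le_omegaGL Q h2 hHΩ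
  have hI : H ≤ isometryGroup F ⇑Q := hHΩ.trans (omegaGL_le_isom ⇑Q)
  by_cases hirr : Irr (HV H)
  swap
  · left
    obtain ⟨W, hW, hst, hts | ⟨hWt, hnd⟩⟩ := reducible_cases Q h2 hH hirr
    · exact cls1a hI hW hts hst
    · exact cls1b hI hW hWt hnd hst
  have hHZ : ¬ H ≤ Zs ι F := not_le_Zs_of_irr (by omega) H hirr
  obtain ⟨N, hN⟩ := exists_minNC H (Zs ι F) hHZ
  have hA : ∀ u ∈ HV H, Nrm (algOf (HV N)) u := Nrm_algOf_HV hN.inv
  by_cases hiso : IsIsotypic (algOf (HV N)) (ι → F)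
  swap
  · left
    exact decomp_case Q h2 hodd hGdet hGK hH hI hirr hN.le hN.inv hiso
  haveI ss : IsSemisimpleModule (algOf (HV N)) (ι → F) :=
    clifford_semisimple (HV H) hirr (algOf (HV N)) hA
  have hNZ : ¬ N ≤ scalars ι F := by
    rw [← Zs_eq_scalars_gen]
    exact hN.not_le
  by_cases hZ : ∀ z ∈ ZC (algOf (HV N)), ∃ c : F, z = c • (1 : Module.End F (ι → F))
  · obtain ⟨a, e, b, hb1, hb2⟩ := tensor_basis (algOf (HV N)) hiso hZ
    have hbH : ∀ h ∈ HV H, ∃ (U : GL (Fin a) F) (Γ : GL (Fin e) F),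
        LinearMap.toMatrix b b (h : Module.End F (ι → F)) =
          (U : Matrix (Fin a) (Fin a) F) ⊗ₖ (Γ : Matrix (Fin e) (Fin e) F) := by
      have hne : Nonempty (Fin a × Fin e) := b.index_nonempty
      have hna : Nonempty (Fin a) := ⟨hne.some.1⟩
      have hnb : Nonempty (Fin e) := ⟨hne.some.2⟩
      intro h hh
      have key := kron_of_normalizes (glMat b h) (by
        intro X
        obtain ⟨x, hx, hxX⟩ := hb2 X
        obtain ⟨X', hX'⟩ := hb1 _ (hA h hh x hx)
        refine ⟨X', ?_⟩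
        rw [← hX', ← hxX, ← map_inv, glMat_val, glMat_val, LinearMap.toMatrix_mul,
          LinearMap.toMatrix_mul])
      obtain ⟨U, Γ, hUΓ⟩ := key
      exact ⟨U, Γ, hUΓ⟩
    rcases tensor_case Q h2 hodd hGdet hH hI hN.le hNZ a e b hb1 hb2 hbH with hM | hspan
    · left
      exact hM
    · exact span_case Q h2 hodd h3 hGdet hGK hH hI hN hspan
  · left
    push Not at hZ
    obtain ⟨z, hz, hzc⟩ := hZ
    exact field_case Q h2 hodd hGdet hH hI hN.le hNZ hA hiso ⟨z, hz, hzc⟩

end Cfsg.Agent.Lib.Helper5.AschO
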