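import Cfsg.Agent.Lib.Helper5.AschO.Reducible

set_option autoImplicit false

/-! The adjoint of an endomorphism for a non-degenerate symmetric form, and the subalgebras
closed under it. -/

namespace Cfsg.Agent.Lib.Helper5.AschO

open Module Matrix
open Cfsg Cfsg.Geo Cfsg.Agent.Lib.Helper8.Asch

variable {ι : Type} [Fintype ι] [DecidableEq ι] {F : Type*} [Field F]

/-- the adjoint of an endomorphism for the form `bf G` -/
noncomputable def adj (G : Matrix ι ι F) (c : Module.End F (ι → F)) : Module.End F (ι → F) :=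
  Matrix.toLin' (G⁻¹ * (LinearMap.toMatrix' c)ᵀ * G)

theorem bf_adj {G : Matrix ι ι F} (hG : G.det ≠ 0) (c : Module.End F (ι → F)) (u v : ι → F) :
    bf G (c u) v = bf G u (adj G c v) := by
  have h1 : c u = LinearMap.toMatrix' c *ᵥ u := (LinearMap.toMatrix'_mulVec c u).symm
  rw [h1, bf_mulVec_left]
  unfold adj
  rw [Matrix.toLin'_apply, bf_mulVec_right, ← Matrix.mul_assoc, ← Matrix.mul_assoc,
    Matrix.mul_nonsing_inv G (Ne.isUnit hG), Matrix.one_mul]

theorem adj_unique {G : Matrix ι ι F} (hG : G.det ≠ 0) {c d : Module.End F (ι → F)}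
    (h : ∀ u v, bf G (c u) v = bf G u (d v)) : d = adj G c := by
  apply LinearMap.ext
  intro v
  have h1 : d v - adj G c v = 0 := by
    apply bf_eq_zero_of_det hG
    intro u
    rw [bf_sub_right, ← h, ← bf_adj hG, sub_self]
  exact sub_eq_zero.mp h1

theorem bf_adj_right {G : Matrix ι ι F} (hG : G.det ≠ 0) (hs : Gᵀ = G) (c : Module.End F (ι → F))
    (u v : ι → F) : bf G u (c v) = bf G (adj G c u) v := by
  rw [bf_symm hs, bf_adj hG, bf_symm hs]

theorem adj_adj {G : Matrix ι ι F} (hG : G.det ≠ 0) (hs : Gᵀ = G) (c : Module.End F (ι → F)) :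
    adj G (adj G c) = c :=
  (adj_unique hG (fun u v => (bf_adj_right hG hs c u v).symm)).symm

theorem adj_mul {G : Matrix ι ι F} (hG : G.det ≠ 0) (c d : Module.End F (ι → F)) :
    adj G (c * d) = adj G d * adj G c := by
  symm
  apply adj_unique hG
  intro u v
  show bf G (c (d u)) v = bf G u (adj G d (adj G c v))
  rw [bf_adj hG, bf_adj hG]

theorem adj_one {G : Matrix ι ι F} (hG : G.det ≠ 0) : adj G (1 : Module.End F (ι → F)) = 1 := by
  symm
  apply adj_unique hG
  intro u v
  rfl

theorem adj_zero {G : Matrix ι ι F} (hG : G.det ≠ 0) : adj G (0 : Module.End F (ι → F)) = 0 := by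
  symm
  apply adj_unique hG
  intro u v
  show bf G 0 v = bf G u 0
  rw [bf_zero_left, bf_zero_right]

theorem adj_add {G : Matrix ι ι F} (hG : G.det ≠ 0) (c d : Module.End F (ι → F)) :
    adj G (c + d) = adj G c + adj G d := by
  symm
  apply adj_unique hG
  intro u v
  show bf G (c u + d u) v = bf G u (adj G c v + adj G d v)
  rw [bf_add_left, bf_add_right, bf_adj hG, bf_adj hG]

theorem adj_smul {G : Matrix ι ι F} (hG : G.det ≠ 0) (a : F) (c : Module.End F (ι → F)) :
    adj G (a • c) = a • adj G c := by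
  symm
  apply adj_unique hG
  intro u v
  show bf G (a • c u) v = bf G u (a • adj G c v)
  rw [bf_smul_left, bf_smul_right, bf_adj hG]

theorem adj_neg {G : Matrix ι ι F} (hG : G.det ≠ 0) (c : Module.End F (ι → F)) :
    adj G (-c) = - adj G c := by
  symm
  apply adj_unique hG
  intro u v
  show bf G (- c u) v = bf G u (- adj G c v)
  rw [bf_neg_left, bf_neg_right, bf_adj hG]

theorem adj_sub {G : Matrix ι ι F} (hG : G.det ≠ 0) (c d : Module.End F (ι → F)) :
    adj G (c - d) = adj G c - adj G d := by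
  rw [sub_eq_add_neg, adj_add hG, adj_neg hG, ← sub_eq_add_neg]

theorem adj_injective {G : Matrix ι ι F} (hG : G.det ≠ 0) (hs : Gᵀ = G) :
    Function.Injective (adj G) := by
  intro c d h
  rw [← adj_adj hG hs c, h, adj_adj hG hs]

/-- the adjoint of an isometry is its inverse -/
theorem adj_toV {G : Matrix ι ι F} (hG : G.det ≠ 0) {H : Subgroup (GL ι F)} (hH : OHyp G H)
    {h : GL ι F} (hh : h ∈ H) :
    adj G ((toV h : GLV F (ι → F)) : Module.End F (ι → F)) =
      ((toV h⁻¹ : GLV F (ι → F)) : Module.End F (ι → F)) := by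
  symm
  apply adj_unique hG
  intro u v
  rw [toV_apply, toV_apply]
  have h1 := hH.bf_eq hh u (((h⁻¹ : GL ι F) : Matrix ι ι F) *ᵥ v)
  rw [Matrix.mulVec_mulVec, ← Units.val_mul, mul_inv_cancel, Units.val_one,
    Matrix.one_mulVec] at h1
  exact h1

/-- the algebra spanned by a group of isometries is closed under adjoints -/
theorem adj_mem_algOf {G : Matrix ι ι F} (hG : G.det ≠ 0) {N : Subgroup (GL ι F)} (hN : OHyp G N) :
    ∀ a ∈ algOf (HV N), adj G a ∈ algOf (HV N) := by
  have key : ∀ a ∈ Subalgebra.toSubmodule (algOf (HV N)), adj G a ∈ algOf (HV N) := by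
    intro a ha
    unfold algOf at ha
    rw [Algebra.adjoin_eq_span, closure_eset] at ha
    induction ha using Submodule.span_induction with
    | mem x hx =>
      obtain ⟨g, hg, rfl⟩ := hx
      obtain ⟨g', hg', rfl⟩ := exists_of_mem_HV hg
      rw [adj_toV hG hN hg']
      exact mem_algOf (mem_HV (N.inv_mem hg'))
    | zero =>
      rw [adj_zero hG]
      exact Subalgebra.zero_mem _
    | add x y _ _ hx hy =>
      rw [adj_add hG]
      exact Subalgebra.add_mem _ hx hy
    | smul c x _ hx =>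
      rw [adj_smul hG]
      exact Subalgebra.smul_mem _ hx c
  exact fun a ha => key a ha

/-- the commutant of an adjoint-closed subalgebra is adjoint-closed -/
theorem adj_mem_Cmt {G : Matrix ι ι F} (hG : G.det ≠ 0) (hs : Gᵀ = G)
    {A : Subalgebra F (Module.End F (ι → F))} (hA : ∀ a ∈ A, adj G a ∈ A) :
    ∀ c ∈ Cmt A, adj G c ∈ Cmt A := by
  intro c hc
  rw [mem_Cmt] at hc ⊢
  intro a ha
  have h1 := hc (adj G a) (hA a ha)
  have h2 := congrArg (adj G) h1
  rw [adj_mul hG, adj_mul hG, adj_adj hG hs] at h2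
  exact h2.symm

theorem adj_mem_ZC {G : Matrix ι ι F} (hG : G.det ≠ 0) (hs : Gᵀ = G)
    {A : Subalgebra F (Module.End F (ι → F))} (hA : ∀ a ∈ A, adj G a ∈ A) :
    ∀ z ∈ ZC A, adj G z ∈ ZC A := by
  intro z hz
  unfold ZC at hz ⊢
  rw [Algebra.mem_inf] at hz ⊢
  exact ⟨adj_mem_Cmt hG hs hA z hz.1, adj_mem_Cmt hG hs (adj_mem_Cmt hG hs hA) z hz.2⟩

/-! ### orthogonal complements -/

theorem perp_eq_orthogonal (G : Matrix ι ι F) (W : Submodule F (ι → F)) :
    perp G W = (Matrix.toBilin' G).orthogonal W := by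
  ext v
  rw [mem_perp, LinearMap.BilinForm.mem_orthogonal_iff]
  constructor
  · intro h w hw
    rw [Matrix.toBilin'_apply']
    exact h w hw
  · intro h w hw
    have := h w hw
    rw [Matrix.toBilin'_apply'] at this
    exact this

theorem finrank_perp {G : Matrix ι ι F} (hG : G.det ≠ 0) (W : Submodule F (ι → F)) :
    finrank F (perp G W) = Fintype.card ι - finrank F W := by
  rw [perp_eq_orthogonal,
    LinearMap.BilinForm.finrank_orthogonal (LinearMap.BilinForm.nondegenerate_toBilin'_of_det_ne_zero' G hG) W,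
    Module.finrank_pi]

theorem perp_top {G : Matrix ι ι F} (hG : G.det ≠ 0) : perp G (⊤ : Submodule F (ι → F)) = ⊥ := by
  rw [eq_bot_iff]
  intro v hv
  rw [Submodule.mem_bot]
  exact bf_eq_zero_of_det hG (fun u => hv u trivial)

theorem perp_anti (G : Matrix ι ι F) {W W' : Submodule F (ι → F)} (h : W ≤ W') :
    perp G W' ≤ perp G W := fun _ hv w hw => hv w (h hw)

/-- the orthogonal complement of a subspace invariant under an adjoint-closed set is invariant -/
theorem perp_invariant_of_adj {G : Matrix ι ι F} (hG : G.det ≠ 0) (hs : Gᵀ = G)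
    {S : Set (Module.End F (ι → F))} (hS : ∀ a ∈ S, adj G a ∈ S) {W : Submodule F (ι → F)}
    (hW : ∀ a ∈ S, ∀ w ∈ W, a w ∈ W) : ∀ a ∈ S, ∀ v ∈ perp G W, a v ∈ perp G W := by
  intro a ha v hv w hw
  rw [bf_adj_right hG hs]
  exact hv _ (hW _ (hS a ha) w hw)

end Cfsg.Agent.Lib.Helper5.AschO
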