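import Cfsg.Agent.Lib.Helper5.AschO.Basis
import Cfsg.Agent.Lib.Helper8.AschF5

set_option autoImplicit false

/-! An embedded full matrix algebra stable under the adjoint of a symmetric form: the adjoint
is `X ↦ U Xᵀ U⁻¹` on it, with `U` symmetric in odd size. -/

namespace Cfsg.Agent.Lib.Helper5.AschO

open Module Matrix
open Cfsg Cfsg.Geo Cfsg.Agent.Lib.Helper8.Asch

variable {F : Type*} [Field F]
variable {κ : Type} [Fintype κ] [DecidableEq κ] {I : Type} [Fintype I] [DecidableEq I]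

theorem antiaut [Nonempty I] (Ψ : Matrix I I F →ₐ[F] Matrix κ κ F) (hΨ : Function.Injective Ψ)
    (B : Matrix κ κ F) (hB : B.det ≠ 0) (hBs : Bᵀ = B)
    (h : ∀ X, ∃ X', B * Ψ X' = (Ψ X)ᵀ * B) (h2 : (2 : F) ≠ 0) (hodd : Odd (Fintype.card I)) :
    ∃ U : GL I F, (∀ X, B * Ψ ((U : Matrix I I F) * Xᵀ * ((U⁻¹ : GL I F) : Matrix I I F)) =
      (Ψ X)ᵀ * B) ∧ (U : Matrix I I F)ᵀ = (U : Matrix I I F) := by
  have hBinv : B⁻¹ * B = 1 := Matrix.nonsing_inv_mul B (Ne.isUnit hB)
  have hfun : ∀ X X' X'', B * Ψ X' = (Ψ X)ᵀ * B → B * Ψ X'' = (Ψ X)ᵀ * B → X' = X'' := by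
    intro X X' X'' h1 h2
    apply hΨ
    calc Ψ X' = B⁻¹ * B * Ψ X' := by rw [hBinv, Matrix.one_mul]
      _ = B⁻¹ * (B * Ψ X') := by rw [Matrix.mul_assoc]
      _ = B⁻¹ * (B * Ψ X'') := by rw [h1, h2]
      _ = Ψ X'' := by rw [← Matrix.mul_assoc, hBinv, Matrix.one_mul]
  choose θ₀ hθ₀ using h
  have hmul : ∀ X Y, θ₀ (X * Y) = θ₀ Y * θ₀ X := by
    intro X Y
    apply hfun (X * Y) _ _ (hθ₀ _)
    rw [map_mul, map_mul, Matrix.transpose_mul, ← Matrix.mul_assoc, hθ₀ Y, Matrix.mul_assoc,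
      hθ₀ X, Matrix.mul_assoc]
  have hone : θ₀ 1 = 1 := by
    apply hfun 1 _ _ (hθ₀ _)
    rw [map_one, Matrix.transpose_one, Matrix.mul_one, Matrix.one_mul]
  have hadd : ∀ X Y, θ₀ (X + Y) = θ₀ X + θ₀ Y := by
    intro X Y
    apply hfun (X + Y) _ _ (hθ₀ _)
    rw [map_add, map_add, Matrix.transpose_add, Matrix.mul_add, Matrix.add_mul, hθ₀ X, hθ₀ Y]
  have hsmul : ∀ (c : F) X, θ₀ (c • X) = c • θ₀ X := by
    intro c X
    apply hfun (c • X) _ _ (hθ₀ _)
    rw [map_smul, map_smul, Matrix.transpose_smul, Matrix.mul_smul, Matrix.smul_mul, hθ₀ X]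
  have hinv : ∀ X, θ₀ (θ₀ X) = X := by
    intro X
    apply hfun (θ₀ X) _ _ (hθ₀ _)
    have h1 := congrArg Matrix.transpose (hθ₀ X)
    rw [Matrix.transpose_mul, Matrix.transpose_mul, Matrix.transpose_transpose, hBs] at h1
    exact h1.symm
  let θ : Matrix I I F →ₐ[F] Matrix I I F :=
    AlgHom.ofLinearMap
      { toFun := fun X => θ₀ Xᵀ
        map_add' := fun X Y => by rw [Matrix.transpose_add, hadd]
        map_smul' := fun c X => by rw [Matrix.transpose_smul, hsmul]; rfl }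
      (by show θ₀ (1 : Matrix I I F)ᵀ = 1; rw [Matrix.transpose_one, hone])
      (by
        intro X Y
        show θ₀ (X * Y)ᵀ = θ₀ Xᵀ * θ₀ Yᵀ
        rw [Matrix.transpose_mul, hmul])
  have hθ : ∀ X, θ X = θ₀ Xᵀ := fun X => rfl
  obtain ⟨U, hU⟩ := algHom_matrix_inner θ
  have hθ₀U : ∀ X, θ₀ X = (U : Matrix I I F) * Xᵀ * ((U⁻¹ : GL I F) : Matrix I I F) := by
    intro X
    have := hU Xᵀ
    rw [hθ, Matrix.transpose_transpose] at this
    exact this
  set Um : Matrix I I F := (U : Matrix I I F) with hUm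
  set Ui : Matrix I I F := ((U⁻¹ : GL I F) : Matrix I I F) with hUi
  have u1 : Um * Ui = 1 := by rw [hUm, hUi, ← Units.val_mul, mul_inv_cancel, Units.val_one]
  have u2 : Ui * Um = 1 := by rw [hUm, hUi, ← Units.val_mul, inv_mul_cancel, Units.val_one]
  have u1t : Uiᵀ * Umᵀ = 1 := by rw [← Matrix.transpose_mul, u1, Matrix.transpose_one]
  have u2t : Umᵀ * Uiᵀ = 1 := by rw [← Matrix.transpose_mul, u2, Matrix.transpose_one]
  -- the involution property gives `U Uᵀ⁻¹` central
  set W : Matrix I I F := Um * Uiᵀ with hW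
  have hWcomm : ∀ X : Matrix I I F, W * X = X * W := by
    intro X
    have h1 := hinv X
    rw [hθ₀U (θ₀ X), hθ₀U X, Matrix.transpose_mul, Matrix.transpose_mul,
      Matrix.transpose_transpose] at h1
    -- h1 : Um * (Uiᵀ * (X * Umᵀ)) * Ui = X  (up to association)
    have h3 : W * X * (Umᵀ * Ui) = X := by
      calc W * X * (Umᵀ * Ui) = Um * (Uiᵀ * (X * Umᵀ)) * Ui := by
            rw [hW]; simp only [Matrix.mul_assoc]
        _ = X := h1
    calc W * X = W * X * ((Umᵀ * Ui) * (Um * Uiᵀ)) := by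
          have : (Umᵀ * Ui) * (Um * Uiᵀ) = 1 := by
            calc (Umᵀ * Ui) * (Um * Uiᵀ) = Umᵀ * (Ui * Um) * Uiᵀ := by simp only [Matrix.mul_assoc]
              _ = 1 := by rw [u2, Matrix.mul_one, u2t]
          rw [this, Matrix.mul_one]
      _ = (W * X * (Umᵀ * Ui)) * (Um * Uiᵀ) := by simp only [Matrix.mul_assoc]
      _ = X * W := by rw [h3]
  have hWs : ∃ μ : F, W = μ • (1 : Matrix I I F) := by
    apply scalar_of_commute_span (S := Set.univ) (by rw [Submodule.span_univ])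
    intro X _
    exact hWcomm X
  obtain ⟨μ, hμ⟩ := hWs
  have hUμ : Um = μ • Umᵀ := by
    calc Um = Um * (Uiᵀ * Umᵀ) := by rw [u1t, Matrix.mul_one]
      _ = W * Umᵀ := by rw [hW, Matrix.mul_assoc]
      _ = μ • Umᵀ := by rw [hμ, Matrix.smul_mul, Matrix.one_mul]
  have hUμt : Umᵀ = μ • Um := by
    have := congrArg Matrix.transpose hUμ
    rw [Matrix.transpose_smul, Matrix.transpose_transpose] at this
    exact this
  have hU0 : Um ≠ 0 := by
    intro h0
    rw [h0, Matrix.zero_mul] at u1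
    obtain ⟨i⟩ := (inferInstance : Nonempty I)
    have := congrFun (congrFun u1 i) i
    rw [Matrix.zero_apply, Matrix.one_apply_eq] at this
    exact zero_ne_one this
  have hμ2 : μ * μ = 1 := by
    have h1 : Um = (μ * μ) • Um := by
      conv_lhs => rw [hUμ, hUμt, smul_smul]
    by_contra hne
    apply hU0
    have h3 : (μ * μ - 1) • Um = 0 := by rw [sub_smul, ← h1, one_smul, sub_self]
    rcases smul_eq_zero.mp h3 with h4 | h4
    · exact absurd (sub_eq_zero.mp h4) hne
    · exact h4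
  have hμcases : μ = 1 ∨ μ = -1 := by
    have : (μ - 1) * (μ + 1) = 0 := by ring_nf; rw [← sub_eq_zero] at hμ2; linear_combination hμ2
    rcases mul_eq_zero.mp this with h | h
    · left; exact sub_eq_zero.mp h
    · right; exact eq_neg_of_add_eq_zero_left h
  refine ⟨U, fun X => ?_, ?_⟩
  · rw [← hθ₀U]
    exact hθ₀ X
  · rcases hμcases with h1 | h1
    · rw [hUμt, h1, one_smul]
    · exfalso
      rw [h1, neg_one_smul] at hUμt
      have hskew : ∀ a b, Um a b + Um b a = 0 := by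
        intro a b
        have := congrFun (congrFun hUμt b) a
        rw [Matrix.transpose_apply, Matrix.neg_apply] at this
        rw [this, neg_add_cancel]
      have hdiag : ∀ a, Um a a = 0 := by
        intro a
        have := hskew a a
        rw [← two_mul] at this
        rcases mul_eq_zero.mp this with h | h
        · exact absurd h h2
        · exact h
      have h0 := det_alt_odd Um hskew hdiag hodd
      exact Matrix.GeneralLinearGroup.det_ne_zero U h0

end Cfsg.Agent.Lib.Helper5.AschO
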