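import Cfsg.Agent.Lib.Helper8.Asch7

set_option autoImplicit false

/-! Clifford's theorem with more structure: the isotypic components as `F`-subspaces, permuted
transitively, invariant under the algebra and its commutant, and generating the lattice of
subspaces invariant under both. (Adapted from `Helper8.Asch.clifford`.) -/

namespace Cfsg.Agent.Lib.Helper5.AschO

open Module
open Cfsg.Agent.Lib.Helper8.Asch

variable {F : Type*} [Field F] {V : Type*} [AddCommGroup V] [Module F V]

theorem clifford_components [FiniteDimensional F V] [Nontrivial V] (H : Subgroup (GLV F V))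
    (hirr : Irr H) (A : Subalgebra F (Module.End F V)) (hA : ∀ h ∈ H, Nrm A h)
    (hnot : ¬ IsIsotypic A V) :
    ∃ (t k : ℕ) (D : Fin t → Submodule F V), 2 ≤ t ∧ 0 < k ∧
      (∀ i, Module.finrank F (D i) = k) ∧ iSupIndep D ∧ iSup D = ⊤ ∧
      (∀ h ∈ H, ∃ σ : Equiv.Perm (Fin t), ∀ i, (D i).map (h : Module.End F V) = D (σ i)) ∧
      (∀ i j, ∃ h ∈ H, (D i).map (h : Module.End F V) = D j) ∧
      (∀ i, ∀ a ∈ A, ∀ w ∈ D i, a w ∈ D i) ∧
      (∀ i, ∀ c ∈ Cmt A, ∀ w ∈ D i, c w ∈ D i) ∧
      (∀ R : Submodule F V, (∀ a ∈ A, ∀ w ∈ R, a w ∈ R) → (∀ c ∈ Cmt A, ∀ w ∈ R, c w ∈ R) →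
        R = ⨆ i, ⨆ (_ : D i ≤ R), D i) := by
  have ss : IsSemisimpleModule A V := clifford_semisimple H hirr A hA
  have hnoeth : IsNoetherian A V := isNoetherian_of_tower F inferInstance
  have hfin : Finite (isotypicComponents A V) := inferInstance
  have hsup : sSup (isotypicComponents A V) = ⊤ := sSup_isotypicComponents A V
  have hne : (isotypicComponents A V).Nonempty := by
    by_contra hcon
    rw [Set.not_nonempty_iff_eq_empty] at hcon
    rw [hcon, sSup_empty] at hsup
    exact bot_ne_top hsup
  obtain ⟨c₀, hc₀⟩ := hne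
  -- the orbit of c₀
  set O : Set (Submodule A V) :=
    {c | ∃ h, ∃ hh : h ∈ H, c = mapSub A h (Nrm.inv_of_subgroup hA hh) c₀} with hO
  have hOsub : O ⊆ isotypicComponents A V := by
    rintro c ⟨h, hh, rfl⟩
    exact mapSub_mem_isotypicComponents A h _ (hA h hh) c₀ hc₀
  have hc₀O : c₀ ∈ O := ⟨1, H.one_mem, (mapSub_one A _ c₀).symm⟩
  have hOtop : sSup O = ⊤ := by
    have hstab : ∀ h (hh : h ∈ H), mapSub A h (Nrm.inv_of_subgroup hA hh) (sSup O) ≤ sSup O := by
      intro h hh
      have h1 : mapSub A h (Nrm.inv_of_subgroup hA hh) (sSup O) =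
          mapIso A h (Nrm.inv_of_subgroup hA hh) (hA h hh) (sSup O) := rfl
      rw [h1, OrderIso.map_sSup]
      apply iSup₂_le
      rintro c ⟨g, hg, rfl⟩
      apply le_sSup
      refine ⟨h * g, H.mul_mem hh hg, ?_⟩
      exact (mapSub_mul A h g (Nrm.inv_of_subgroup hA hh) (Nrm.inv_of_subgroup hA hg)
        (Nrm.inv_of_subgroup hA (H.mul_mem hh hg)) c₀).symm
    rcases eq_bot_or_top_of_stable H hirr A hA (sSup O) hstab with h | h
    · exfalso
      have h1 : c₀ ≤ sSup O := le_sSup hc₀O
      rw [h] at h1
      exact (bot_lt_isotypicComponents hc₀).ne' (le_bot_iff.mp h1)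
    · exact h
  have hall : ∀ c ∈ isotypicComponents A V, c ∈ O := by
    intro c hc
    by_contra hcO
    have hind := sSupIndep_isotypicComponents A V hc
    have h1 : sSup O ≤ sSup (isotypicComponents A V \ {c}) := by
      apply sSup_le_sSup
      intro d hd
      refine ⟨hOsub hd, ?_⟩
      rintro rfl
      exact hcO hd
    rw [hOtop, top_le_iff] at h1
    rw [h1, disjoint_top] at hind
    exact (bot_lt_isotypicComponents hc).ne' hind
  -- enumerate
  set t := Nat.card (isotypicComponents A V) with ht
  have e : Fin t ≃ isotypicComponents A V := (Finite.equivFin _).symm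
  have ht2 : 2 ≤ t := by
    by_contra ht2
    push Not at ht2
    apply hnot
    have hsingle : ∀ c ∈ isotypicComponents A V, c = c₀ := by
      intro c hc
      by_contra hne
      have : 1 < t := by
        rw [ht]
        apply Finite.one_lt_card_iff_nontrivial.mpr
        exact ⟨⟨⟨c, hc⟩, ⟨c₀, hc₀⟩, fun h => hne (congrArg Subtype.val h)⟩⟩
      omega
    have hset : isotypicComponents A V = {c₀} := by
      ext c
      constructor
      · intro hc
        exact hsingle c hc
      · rintro rfl
        exact hc₀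
    rw [hset, sSup_singleton] at hsup
    obtain ⟨S, hS, rfl⟩ := hc₀
    exact (IsIsotypicOfType.of_isotypicComponent_eq_top hsup).isIsotypic
  set k := Module.finrank F (c₀.restrictScalars F) with hk
  have hinjH : ∀ h : GLV F V, Function.Injective (h : Module.End F V) := by
    intro h x y hxy
    have := congrArg ((h⁻¹ : GLV F V) : Module.End F V) hxy
    rwa [inv_apply_apply, inv_apply_apply] at this
  refine ⟨t, k, fun i => (e i).1.restrictScalars F, ht2, ?_, ?_, ?_, ?_, ?_, ?_, ?_, ?_, ?_⟩
  · rw [hk]
    apply Module.finrank_pos_iff.mpr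
    have : c₀.restrictScalars F ≠ ⊥ := by
      intro h
      exact (bot_lt_isotypicComponents hc₀).ne'
        ((Submodule.restrictScalars_eq_bot_iff _ _ _).mp h)
    exact Submodule.nontrivial_iff_ne_bot.mpr this
  · intro i
    obtain ⟨h, hh, hc⟩ := hall (e i).1 (e i).2
    show Module.finrank F ((e i).1.restrictScalars F) = k
    rw [hc, restrictScalars_mapSub, hk]
    exact (LinearEquiv.finrank_eq (Submodule.equivMapOfInjective _ (hinjH h) _)).symm
  · apply iSupIndep_restrictScalars A (fun i => (e i).1)
    have h1 := (sSupIndep_iff _).mp (sSupIndep_isotypicComponents A V)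
    exact h1.comp e.injective
  · rw [← Submodule.restrictScalars_iSup, Submodule.restrictScalars_eq_top_iff]
    rw [← hsup, sSup_eq_iSup']
    exact e.iSup_comp (g := fun c : isotypicComponents A V => c.1)
  · intro h hh
    let f : isotypicComponents A V → isotypicComponents A V := fun c =>
      ⟨mapSub A h (Nrm.inv_of_subgroup hA hh) c.1,
        mapSub_mem_isotypicComponents A h _ (hA h hh) c.1 c.2⟩
    have hfinj : Function.Injective f := by
      intro c d hcd
      have h1 : mapSub A h (Nrm.inv_of_subgroup hA hh) c.1 =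
          mapSub A h (Nrm.inv_of_subgroup hA hh) d.1 := congrArg Subtype.val hcd
      have h2 := congrArg (mapSub A h⁻¹ (by rw [inv_inv]; exact hA h hh)) h1
      rw [mapSub_inv_mapSub _ (hA h hh), mapSub_inv_mapSub _ (hA h hh)] at h2
      exact Subtype.ext h2
    have hfbij : Function.Bijective f := Finite.injective_iff_bijective.mp hfinj
    refine ⟨(e.trans (Equiv.ofBijective f hfbij)).trans e.symm, fun i => ?_⟩
    simp only [Equiv.trans_apply, Equiv.apply_symm_apply, Equiv.ofBijective_apply]
    rw [← restrictScalars_mapSub]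
  · -- transitivity
    intro i j
    obtain ⟨h₁, hh₁, hc₁⟩ := hall (e i).1 (e i).2
    obtain ⟨h₂, hh₂, hc₂⟩ := hall (e j).1 (e j).2
    refine ⟨h₂ * h₁⁻¹, H.mul_mem hh₂ (H.inv_mem hh₁), ?_⟩
    show ((e i).1.restrictScalars F).map ((h₂ * h₁⁻¹ : GLV F V) : Module.End F V) =
      (e j).1.restrictScalars F
    rw [hc₁, hc₂, restrictScalars_mapSub, restrictScalars_mapSub, ← Submodule.map_comp]
    congr 1
    rw [Units.val_mul]
    apply LinearMap.ext
    intro v
    show (h₂ : Module.End F V) (((h₁⁻¹ : GLV F V) : Module.End F V) ((h₁ : Module.End F V) v)) = _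
    rw [inv_apply_apply]
  · intro i a ha w hw
    exact (e i).1.smul_mem (⟨a, ha⟩ : A) hw
  · intro i c hc w hw
    have hfi : (e i).1.IsFullyInvariant := Submodule.IsFullyInvariant.of_mem_isotypicComponents (e i).2
    exact hfi (toEndA A c hc) hw
  · intro R hRA hRC
    let R' : Submodule A V :=
      { carrier := R
        add_mem' := R.add_mem
        zero_mem' := R.zero_mem
        smul_mem' := fun a w hw => hRA a.1 a.2 w hw }
    have hR'fi : R'.IsFullyInvariant := by
      intro f w hw
      exact hRC _ (restrictScalars_mem_Cmt A f) w hw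
    obtain ⟨s, hs, hR's⟩ := isFullyInvariant_iff_sSup_isotypicComponents.mp hR'fi
    apply le_antisymm
    · intro x hx
      have hx' : x ∈ R' := hx
      rw [hR's, sSup_eq_iSup'] at hx'
      have h1 : (⨆ c : s, (c : Submodule A V)).restrictScalars F ≤
          ⨆ i, ⨆ (_ : (e i).1.restrictScalars F ≤ R), (e i).1.restrictScalars F := by
        rw [Submodule.restrictScalars_iSup]
        apply iSup_le
        intro c
        have hcR : (c : Submodule A V) ≤ R' := by
          rw [hR's]
          exact le_sSup c.2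
        have hci : (e (e.symm ⟨c.1, hs c.2⟩)).1 = c.1 := by rw [Equiv.apply_symm_apply]
        have h2 : (e (e.symm ⟨c.1, hs c.2⟩)).1.restrictScalars F ≤ R := by
          rw [hci]
          intro y hy
          exact hcR hy
        have h3 := le_iSup₂ (f := fun i (_ : (e i).1.restrictScalars F ≤ R) =>
          (e i).1.restrictScalars F) (e.symm ⟨c.1, hs c.2⟩) h2
        rw [hci] at h3
        exact h3
      exact h1 hx'
    · exact iSup₂_le (fun i hi => hi)

end Cfsg.Agent.Lib.Helper5.AschO
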