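import Cfsg.Agent.Lib.Helper5.AschO.Adjoint
import Cfsg.Agent.Lib.Helper5.AschO.Components

set_option autoImplicit false

/-! The isotypic components of a normal subgroup of an irreducible group of isometries in odd
dimension are non-degenerate and pairwise orthogonal. -/

namespace Cfsg.Agent.Lib.Helper5.AschO

open Module Matrix
open Cfsg Cfsg.Geo Cfsg.Agent.Lib.Helper8.Asch

variable {ι : Type} [Fintype ι] [DecidableEq ι] {F : Type*} [Field F]

theorem even_of_involution {t : ℕ} (p : Fin t → Fin t) (hp : ∀ i, p (p i) = i)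
    (hne : ∀ i, p i ≠ i) : Even t := by
  let σ : Equiv.Perm (Fin t) := Function.Involutive.toPerm p hp
  have hσ : ∀ i, σ i = p i := fun i => rfl
  have h2 : σ ^ 2 = 1 := by
    ext i
    rw [sq, Equiv.Perm.mul_apply, hσ, hσ, hp, Equiv.Perm.one_apply]
  have h3 := Equiv.Perm.two_dvd_card_support h2
  have h4 : σ.support = Finset.univ := by
    ext i
    rw [Equiv.Perm.mem_support, hσ]
    simp [hne]
  rw [h4, Finset.card_univ, Fintype.card_fin] at h3
  exact even_iff_two_dvd.mpr h3

/-- the data of a system of components for a form -/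
structure CompData (G : Matrix ι ι F) {t : ℕ} (k : ℕ) (D : Fin t → Submodule F (ι → F))
    (S : Set (Module.End F (ι → F))) : Prop where
  det : G.det ≠ 0
  symm : Gᵀ = G
  pos : 0 < k
  finrank_eq : ∀ i, finrank F (D i) = k
  indep : iSupIndep D
  sup : iSup D = ⊤
  adjS : ∀ a ∈ S, adj G a ∈ S
  inv : ∀ i, ∀ a ∈ S, ∀ w ∈ D i, a w ∈ D i
  gen : ∀ R : Submodule F (ι → F), (∀ a ∈ S, ∀ w ∈ R, a w ∈ R) → R = ⨆ i, ⨆ (_ : D i ≤ R), D i

namespace CompData

variable {G : Matrix ι ι F} {t k : ℕ} {D : Fin t → Submodule F (ι → F)}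
  {S : Set (Module.End F (ι → F))} (h : CompData G k D S)
include h

theorem card_blocks : t * k = Fintype.card ι := by
  have hInt : DirectSum.IsInternal D :=
    DirectSum.isInternal_submodule_of_iSupIndep_of_iSup_eq_top h.indep h.sup
  have hb := hInt.collectedBasis (fun i => Module.finBasis F (D i))
  have h1 := Module.finrank_eq_card_basis hb
  rw [Module.finrank_fintype_fun_eq_card, Fintype.card_sigma] at h1
  simp only [Fintype.card_fin, h.finrank_eq, Finset.sum_const, Finset.card_univ,
    smul_eq_mul] at h1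
  omega

theorem ne_bot (i : Fin t) : D i ≠ ⊥ := by
  intro h0
  have := h.finrank_eq i
  rw [h0, finrank_bot] at this
  have := h.pos
  omega

theorem disjoint {i j : Fin t} (hij : i ≠ j) : Disjoint (D i) (D j) :=
  h.indep.pairwiseDisjoint hij

theorem D_inj {i j : Fin t} (hij : D i = D j) : i = j := by
  by_contra hne
  have h1 := h.disjoint hne
  rw [hij, disjoint_self] at h1
  exact h.ne_bot j h1

/-- `D j` is orthogonal to `D i` -/
def rel (_ : CompData G k D S) (i j : Fin t) : Prop := D j ≤ perp G (D i)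

theorem rel_iff (i j : Fin t) : h.rel i j ↔ ∀ x ∈ D i, ∀ y ∈ D j, bf G x y = 0 := by
  constructor
  · intro hr x hx y hy
    exact hr hy x hx
  · intro hr y hy x hx
    exact hr x hx y hy

theorem rel_symm {i j : Fin t} (hr : h.rel i j) : h.rel j i := by
  rw [rel_iff] at hr ⊢
  intro x hx y hy
  rw [bf_symm h.symm]
  exact hr y hy x hx

theorem perp_inv (i : Fin t) : ∀ a ∈ S, ∀ v ∈ perp G (D i), a v ∈ perp G (D i) :=
  perp_invariant_of_adj h.det h.symm h.adjS (h.inv i)

theorem exists_not_rel (i : Fin t) : ∃ j, ¬ h.rel i j := by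
  by_contra hcon
  push Not at hcon
  have h1 : (⊤ : Submodule F (ι → F)) ≤ perp G (D i) := by
    rw [← h.sup]
    exact iSup_le hcon
  apply h.ne_bot i
  rw [eq_bot_iff]
  intro x hx
  rw [Submodule.mem_bot]
  apply bf_eq_zero_of_det' h.det
  intro u
  exact h1 (Submodule.mem_top : u ∈ ⊤) x hx

theorem eq_of_le_sup {l j₁ j₂ : Fin t} (hl : D l ≤ D j₁ ⊔ D j₂) : l = j₁ ∨ l = j₂ := by
  by_contra hcon
  push Not at hcon
  have h1 : D j₁ ⊔ D j₂ ≤ ⨆ j, ⨆ (_ : j ≠ l), D j := by
    apply sup_le
    · exact le_iSup₂ (f := fun j (_ : j ≠ l) => D j) j₁ (Ne.symm hcon.1)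
    · exact le_iSup₂ (f := fun j (_ : j ≠ l) => D j) j₂ (Ne.symm hcon.2)
  have h2 := h.indep l
  have h3 : D l ≤ ⊥ := h2 le_rfl (hl.trans h1)
  exact h.ne_bot l (le_bot_iff.mp h3)

theorem unique_not_rel {i j₁ j₂ : Fin t} (h1 : ¬ h.rel i j₁) (h2 : ¬ h.rel i j₂) : j₁ = j₂ := by
  by_contra hne
  set R : Submodule F (ι → F) := (D j₁ ⊔ D j₂) ⊓ perp G (D i) with hR
  have hRinv : ∀ a ∈ S, ∀ w ∈ R, a w ∈ R := by
    intro a ha w hw
    refine ⟨?_, h.perp_inv i a ha w hw.2⟩
    obtain ⟨y, hy, z, hz, rfl⟩ := Submodule.mem_sup.mp hw.1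
    rw [map_add]
    exact Submodule.add_mem _ (Submodule.mem_sup_left (h.inv j₁ a ha y hy))
      (Submodule.mem_sup_right (h.inv j₂ a ha z hz))
  have hR0 : R = ⊥ := by
    rw [h.gen R hRinv]
    apply le_antisymm _ bot_le
    apply iSup₂_le
    intro l hl
    exfalso
    have h3 : D l ≤ D j₁ ⊔ D j₂ := hl.trans inf_le_left
    have h4 : h.rel i l := hl.trans inf_le_right
    rcases h.eq_of_le_sup h3 with rfl | rfl
    · exact h1 h4
    · exact h2 h4
  have hdisj : Disjoint (D j₁ ⊔ D j₂) (perp G (D i)) := disjoint_iff.mpr hR0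
  have h5 : finrank F ↥(D j₁ ⊔ D j₂) = 2 * k := by
    have := Submodule.finrank_sup_add_finrank_inf_eq (D j₁) (D j₂)
    rw [(disjoint_iff.mp (h.disjoint hne)), finrank_bot, h.finrank_eq, h.finrank_eq] at this
    omega
  have h6 := finrank_perp h.det (D i)
  rw [h.finrank_eq] at h6
  have h7 := Submodule.finrank_sup_add_finrank_inf_eq (D j₁ ⊔ D j₂) (perp G (D i))
  rw [disjoint_iff.mp hdisj, finrank_bot, h5, h6] at h7
  have h8 : finrank F ↥((D j₁ ⊔ D j₂) ⊔ perp G (D i)) ≤ Fintype.card ι := by
    have := Submodule.finrank_le ((D j₁ ⊔ D j₂) ⊔ perp G (D i))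
    rwa [Module.finrank_fintype_fun_eq_card] at this
  have h9 : k ≤ Fintype.card ι := by
    have := Submodule.finrank_le (D i)
    rwa [Module.finrank_fintype_fun_eq_card, h.finrank_eq] at this
  have := h.pos
  omega

/-- the partner of a component -/
noncomputable def partner (i : Fin t) : Fin t := Classical.choose (h.exists_not_rel i)

theorem partner_spec (i : Fin t) : ¬ h.rel i (h.partner i) :=
  Classical.choose_spec (h.exists_not_rel i)

theorem partner_unique {i j : Fin t} (hj : ¬ h.rel i j) : j = h.partner i :=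
  h.unique_not_rel hj (h.partner_spec i)

theorem partner_partner (i : Fin t) : h.partner (h.partner i) = i := by
  symm
  apply h.partner_unique
  intro hr
  exact h.partner_spec i (h.rel_symm hr)

theorem rel_of_ne_partner {i j : Fin t} (hj : j ≠ h.partner i) : h.rel i j := by
  by_contra hr
  exact hj (h.partner_unique hr)

/-- an isometry permuting the components commutes with the partner map -/
theorem partner_map (g : Module.End F (ι → F)) (hg : ∀ u v, bf G (g u) (g v) = bf G u v)
    (σ : Equiv.Perm (Fin t)) (hσ : ∀ i, (D i).map g = D (σ i)) (i : Fin t) :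
    h.partner (σ i) = σ (h.partner i) := by
  symm
  apply h.partner_unique
  intro hr
  apply h.partner_spec i
  rw [rel_iff] at hr ⊢
  intro x hx y hy
  rw [← hg]
  apply hr
  · rw [← hσ]
    exact Submodule.mem_map_of_mem hx
  · rw [← hσ]
    exact Submodule.mem_map_of_mem hy

/-- in odd dimension every component is its own partner -/
theorem partner_self (hodd : Odd (Fintype.card ι)) (K : Set (Module.End F (ι → F)))
    (hK : ∀ g ∈ K, (∀ u v, bf G (g u) (g v) = bf G u v) ∧
      ∃ σ : Equiv.Perm (Fin t), ∀ i, (D i).map g = D (σ i))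
    (htrans : ∀ i j, ∃ g ∈ K, (D i).map g = D j) (i : Fin t) : h.partner i = i := by
  by_contra hne
  have hall : ∀ j, h.partner j ≠ j := by
    intro j hj
    obtain ⟨g, hg, hgij⟩ := htrans j i
    obtain ⟨hiso, σ, hσ⟩ := hK g hg
    have h1 : σ j = i := h.D_inj (by rw [← hσ, hgij])
    apply hne
    rw [← h1, h.partner_map g hiso σ hσ, hj]
  have h2 := even_of_involution h.partner h.partner_partner hall
  have h3 := h.card_blocks
  rw [← h3] at hodd
  exact (Nat.not_even_iff_odd.mpr hodd) (h2.mul_right k)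

theorem orthogonal_of_partner_self (hp : ∀ i, h.partner i = i) (i j : Fin t) (hij : i ≠ j) :
    AreOrthogonalFor (bf G) (D i) (D j) := by
  have h1 : h.rel i j := h.rel_of_ne_partner (by rw [hp]; exact Ne.symm hij)
  exact (h.rel_iff i j).mp h1

theorem nondegenerate_of_partner_self (hp : ∀ i, h.partner i = i) (i : Fin t) :
    IsNondegenerateOn (bf G) (D i) := by
  have key : ∀ w ∈ D i, w ≠ 0 → ∃ x ∈ D i, bf G x w ≠ 0 := by
    intro w hw hw0
    by_contra hcon
    push Not at hcon
    apply hw0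
    apply bf_eq_zero_of_det h.det
    intro u
    have h1 : (⊤ : Submodule F (ι → F)) ≤ perp G (Submodule.span F {w}) := by
      rw [← h.sup]
      apply iSup_le
      intro j v hv
      rw [mem_perp]
      intro u' hu'
      obtain ⟨c, rfl⟩ := Submodule.mem_span_singleton.mp hu'
      rw [bf_smul_left, bf_symm h.symm]
      by_cases hji : j = i
      · subst hji
        rw [hcon v hv, mul_zero]
      · rw [h.orthogonal_of_partner_self hp j i hji v hv w hw, mul_zero]
    have h2 := h1 (Submodule.mem_top : u ∈ ⊤) w (Submodule.mem_span_singleton_self w)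
    rw [bf_symm h.symm]
    exact h2
  intro w hw hw0
  obtain ⟨x, hx, hxw⟩ := key w hw hw0
  refine ⟨⟨x, hx, hxw⟩, ⟨x, hx, ?_⟩⟩
  rw [bf_symm h.symm]
  exact hxw

end CompData

end Cfsg.Agent.Lib.Helper5.AschO
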