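import Mathlib
import Cfsg.Agent.Lib.Helper5.AschO.Main5
import Cfsg.Agent.Lib.Helper5.SpinorHyp2
import Cfsg.Agent.Lib.Helper5.Discriminant

set_option autoImplicit false

/-! The subgroup structure theorem for the standard odd-dimensional quadratic form. -/

namespace Cfsg.Agent.Lib.Helper5.AschO

open Module Matrix QuadraticMap
open Cfsg Cfsg.Geo Cfsg.Agent.Lib.Helper8.Asch
open Cfsg.Agent.Lib.Helper5.SpinorHyp2

variable {F : Type*} [Field F]

theorem single_mem_subfield {κ : Type} [DecidableEq κ] (K : Subfield F) (i j : κ) :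
    (Pi.single i (1 : F) : κ → F) j ∈ K := by
  by_cases h : j = i
  · subst h
    rw [Pi.single_eq_same]
    exact K.one_mem
  · rw [Pi.single_eq_of_ne h]
    exact K.zero_mem

theorem gramQ_oddForm_mem (m : ℕ) (K : Subfield F) (i j : Unit ⊕ (Fin m ⊕ Fin m)) :
    gramQ (oddForm m F) i j ∈ K := by
  show polar (oddForm m F) (Pi.single i 1) (Pi.single j 1) ∈ K
  rw [polar_oddForm]
  have h2K : (2 : F) ∈ K := by
    have := K.add_mem K.one_mem K.one_mem
    rwa [one_add_one_eq_two] at this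
  refine K.add_mem (K.mul_mem h2K (K.mul_mem (single_mem_subfield K _ _)
    (single_mem_subfield K _ _))) (K.sum_mem fun l _ => K.add_mem
    (K.mul_mem (single_mem_subfield K _ _) (single_mem_subfield K _ _))
    (K.mul_mem (single_mem_subfield K _ _) (single_mem_subfield K _ _)))

theorem inOClassGen_imp [Fintype F] (m : ℕ) {M : Subgroup (GL (Unit ⊕ (Fin m ⊕ Fin m)) F)}
    (h : InOClassGen (Cfsg.quadFormOdd m F) M) : InOrthogonalOddClass m F M := by
  unfold InOrthogonalOddClass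
  rcases h with h | h | h | h | h | h | h | h
  · exact Or.inl h
  · exact Or.inr (Or.inl h)
  · exact Or.inr (Or.inr (Or.inl h))
  · exact Or.inr (Or.inr (Or.inr (Or.inl h)))
  · obtain ⟨r, K, hr, hne, rest⟩ := h
    refine Or.inr (Or.inr (Or.inr (Or.inr (Or.inl ⟨r, K, hr, ?_, rest⟩))))
    intro heq
    apply hne
    rw [← heq, Fintype.card_sum, Fintype.card_sum, Fintype.card_unit, Fintype.card_fin]
    omega
  · exact Or.inr (Or.inr (Or.inr (Or.inr (Or.inr (Or.inl h)))))
  · exact Or.inr (Or.inr (Or.inr (Or.inr (Or.inr (Or.inr (Or.inl h))))))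
  · exact Or.inr (Or.inr (Or.inr (Or.inr (Or.inr (Or.inr (Or.inr h))))))

theorem orth_odd_main [Fintype F] (hodd : Odd (Fintype.card F)) (m : ℕ) (hm : 1 ≤ m)
    (H : Subgroup (GL (Unit ⊕ (Fin m ⊕ Fin m)) F))
    (hH : H ≤ omegaGL (Cfsg.quadFormOdd m F)) :
    (∃ M : Subgroup (GL (Unit ⊕ (Fin m ⊕ Fin m)) F), InOrthogonalOddClass m F M ∧ H ≤ M) ∨
      InOrthogonalResidualClass H := by
  have h2 : (2 : F) ≠ 0 := Cfsg.Agent.Lib.Helper5.two_ne_zero_of_odd_card hodd
  have hcard : Fintype.card (Unit ⊕ (Fin m ⊕ Fin m)) = 2 * m + 1 := by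
    rw [Fintype.card_sum, Fintype.card_sum, Fintype.card_unit, Fintype.card_fin]
    omega
  have hGdet : (gramQ (oddForm m F)).det ≠ 0 := gramQ_det _ (oddForm_nondegenerate h2 m)
  have hGK : ∀ K : Subfield F, (gramQ (oddForm m F)).det ∈ K :=
    fun K => det_mem_of_entries K _ (gramQ_oddForm_mem m K)
  rw [← coe_oddForm] at hH
  rcases orth_main_gen (oddForm m F) h2 (by rw [hcard]; exact ⟨m, rfl⟩) (by rw [hcard]; omega)
    hGdet hGK H hH with ⟨M, hM, hHM⟩ | hres
  · left
    rw [coe_oddForm] at hM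
    exact ⟨M, inOClassGen_imp m hM, hHM⟩
  · right
    exact hres

end Cfsg.Agent.Lib.Helper5.AschO
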