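import Cfsg.Agent.Lib.Helper5.AschO.CaseB
import Cfsg.Agent.Lib.Helper8.AschB3

set_option autoImplicit false

/-! The residual core for a general index type (after helper8's `AschB3`). -/

namespace Cfsg.Agent.Lib.Helper5.AschO

open Module Matrix
open scoped commutatorElement
open Cfsg Cfsg.Geo Cfsg.Agent.Lib.Helper8.Asch

variable {ι : Type} [Fintype ι] [DecidableEq ι] {F : Type*} [Field F]

theorem Zs_eq_scalars_gen : Zs ι F = scalars ι F := by
  ext g
  rw [mem_Zs, mem_scalars_iff]

theorem mem_scalars_of_eq_smul_gen [Nonempty ι] {g : GL ι F} {c : F}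
    (h : (g : Matrix ι ι F) = c • (1 : Matrix ι ι F)) :
    g ∈ scalars ι F := by
  have hc : c ≠ 0 := by
    intro h0
    rw [h0, zero_smul] at h
    have h10 : (1 : Matrix ι ι F) = 0 := by
      rw [← Units.inv_mul g, h, mul_zero]
    exact one_ne_zero h10
  rw [mem_scalars_iff]
  exact ⟨Units.mk0 c hc, h⟩

theorem absIrred_of_span_gen (N : Subgroup (GL ι F)) (hspan : Submodule.span F (mset N) = ⊤) :
    ActsAbsolutelyIrreducibly (matrixSet N) := by
  constructor
  · intro W hW
    refine irr_of_span_gen N hspan W ?_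
    intro u hu w hw
    obtain ⟨g, hg, rfl⟩ := exists_of_mem_HV hu
    rw [toV_val]
    exact hW _ ⟨g, hg, rfl⟩ (Submodule.mem_map_of_mem hw)
  · intro M hM
    exact scalar_of_commute_span hspan hM

theorem residual_core_gen [Nonempty ι] (H N : Subgroup (GL ι F)) (hNH : N ≤ H) (hHN : HInv H N)
    (hspan : Submodule.span F (mset N) = ⊤) (hperf : ⁅N, N⁆ = N)
    (hmin : IsMinNC N (scalars ι F) N)
    (hnosub : ∀ F₀ : Subfield F, F₀ ≠ ⊤ → ¬ RealisableOver F₀ (matrixSet N)) :
    IsResidualCore H N := by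
  have hZc : scalars ι F ≤ Subgroup.center (GL ι F) := by
    rw [← Zs_eq_scalars_gen]
    exact Zs_le_center
  set K : Subgroup N := (scalars ι F).subgroupOf N with hK
  have hNZ : ¬ N ≤ scalars ι F := hmin.not_le
  refine ⟨hNH, hHN, hperf, ?_, ?_, ?_, absIrred_of_span_gen N hspan, hnosub⟩
  · -- simple quotient
    obtain ⟨x, hxN, hxZ⟩ := SetLike.not_le_iff_exists.mp hNZ
    haveI : Nontrivial (N ⧸ K) := by
      refine ⟨QuotientGroup.mk ⟨x, hxN⟩, 1, ?_⟩
      intro h
      rw [QuotientGroup.eq_one_iff] at h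
      exact hxZ (Subgroup.mem_subgroupOf.mp h)
    refine ⟨fun A hA => ?_⟩
    set M : Subgroup N := A.comap (QuotientGroup.mk' K) with hM
    haveI : M.Normal := Subgroup.Normal.comap hA _
    have hKM : K ≤ M := by
      intro y hy
      rw [hM, Subgroup.mem_comap]
      have : QuotientGroup.mk' K y = 1 := (QuotientGroup.eq_one_iff y).mpr hy
      rw [this]
      exact A.one_mem
    set M' : Subgroup (GL ι F) := M.map N.subtype with hM'
    have hM'N : M' ≤ N := by
      rintro y ⟨z, -, rfl⟩
      exact z.2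
    have hM'inv : HInv N M' := by
      rintro g hg y ⟨z, hz, rfl⟩
      refine ⟨⟨g, hg⟩ * z * ⟨g, hg⟩⁻¹, ?_, ?_⟩
      · exact ‹M.Normal›.conj_mem z hz ⟨g, hg⟩
      · rw [map_mul, map_mul, map_inv]
        simp only [Subgroup.coe_subtype]
    by_cases hM'Z : M' ≤ scalars ι F
    · left
      have hMK : M = K := by
        apply le_antisymm _ hKM
        intro y hy
        exact Subgroup.mem_subgroupOf.mpr (hM'Z ⟨y, hy, rfl⟩)
      have hsurj : Function.Surjective (QuotientGroup.mk' K) := QuotientGroup.mk'_surjective K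
      rw [eq_bot_iff]
      intro a ha
      obtain ⟨y, rfl⟩ := hsurj a
      have hyM : y ∈ M := ha
      rw [hMK] at hyM
      rw [Subgroup.mem_bot]
      exact (QuotientGroup.eq_one_iff y).mpr hyM
    · right
      have hM'eq : M' = N := hmin.min M' hM'N hM'inv hM'Z
      have hsurj : Function.Surjective (QuotientGroup.mk' K) := QuotientGroup.mk'_surjective K
      rw [eq_top_iff]
      intro a _
      obtain ⟨y, rfl⟩ := hsurj a
      have hy : (y : GL ι F) ∈ M' := by rw [hM'eq]; exact y.2
      obtain ⟨z, hz, hzy⟩ := hy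
      have : z = y := Subtype.ext hzy
      rw [this] at hz
      exact hz
  · -- non-abelian
    intro hcomm
    apply hNZ
    rw [← hperf, Subgroup.commutator_le]
    intro a ha b hb
    have h1 : (QuotientGroup.mk' K ⟨a, ha⟩) * (QuotientGroup.mk' K ⟨b, hb⟩) =
        (QuotientGroup.mk' K ⟨b, hb⟩) * (QuotientGroup.mk' K ⟨a, ha⟩) :=
      hcomm.is_comm.comm _ _
    have h2 : QuotientGroup.mk' K ⁅(⟨a, ha⟩ : N), ⟨b, hb⟩⁆ = 1 := by
      rw [map_commutatorElement, commutatorElement_def, h1]
      group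
    have h3 := (QuotientGroup.eq_one_iff _).mp h2
    exact Subgroup.mem_subgroupOf.mp h3
  · -- centraliser
    intro h hh hcen
    have h1 : ∀ x ∈ N, ⁅x, h⁆ ∈ scalars ι F := by
      intro x hx
      have := (scalars ι F).inv_mem (hcen x hx)
      have e : (h * x * h⁻¹ * x⁻¹)⁻¹ = ⁅x, h⁆ := by
        rw [commutatorElement_def]
        group
      rwa [e] at this
    have h2 := commute_of_perfect hZc hperf h h1
    have h3 : ∀ X ∈ mset N, (h : Matrix ι ι F) * X = X * (h : Matrix ι ι F) := by
      rintro X ⟨x, hx, rfl⟩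
      rw [← Units.val_mul, ← Units.val_mul, h2 x hx]
    obtain ⟨c, hc⟩ := scalar_of_commute_span hspan h3
    exact mem_scalars_of_eq_smul_gen hc


end Cfsg.Agent.Lib.Helper5.AschO
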