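import Cfsg.Agent.Lib.Helper5.AschO.Residual
import Cfsg.Agent.Lib.Helper8.AschS2

set_option autoImplicit false

/-! Subfield groups for a general index type (after helper8's `AschS2`). -/

namespace Cfsg.Agent.Lib.Helper5.AschO

open Module Matrix
open Cfsg Cfsg.Geo Cfsg.Agent.Lib.Helper8.Asch

variable {ι : Type} [Fintype ι] [DecidableEq ι] {F : Type*} [Field F]

theorem sf0_gen [Fintype F] [Nonempty ι] (K : Subfield F) (S : Set (Matrix ι ι F))
    (hcent : ∀ w : Matrix ι ι F, (∀ s ∈ S, w * s = s * w) →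
      ∃ c : F, w = c • (1 : Matrix ι ι F))
    (hK : ∀ s ∈ S, ∀ i j, s i j ∈ K) (g : GL ι F)
    (hg : ∀ s ∈ S, (g : Matrix ι ι F) * s *
      ((g⁻¹ : GL ι F) : Matrix ι ι F) ∈ S) :
    g ∈ (Matrix.GeneralLinearGroup.map (K.subtype : K →+* F)).range ⊔ scalars ι F := by
  classical
  haveI : Fintype K := Fintype.ofFinite K
  let τ : F →+* F := (FiniteField.frobeniusAlgHom K F).toRingHom
  have hτ : ∀ x : F, τ x = x ^ Fintype.card K := fun x => rfl
  have hfix : ∀ x : F, x ∈ K ↔ τ x = x := by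
    intro x
    rw [hτ, Fintype.card_eq_nat_card]
    exact mem_subfield_iff_pow K x
  have hmapfix : ∀ Y : Matrix ι ι F, (∀ i j, Y i j ∈ K) → Y.map τ = Y := by
    intro Y hY
    ext i j
    rw [Matrix.map_apply]
    exact (hfix _).mp (hY i j)
  set gτ : GL ι F := Matrix.GeneralLinearGroup.map τ g with hgτ
  have hgτval : (gτ : Matrix ι ι F) = (g : Matrix ι ι F).map τ := rfl
  have hgτinv : ((gτ⁻¹ : GL ι F) : Matrix ι ι F) =
      ((g⁻¹ : GL ι F) : Matrix ι ι F).map τ := by
    rw [hgτ, ← Matrix.GeneralLinearGroup.map_inv]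
    rfl
  -- g⁻¹ gτ centralises S
  have hcomm : ∀ s ∈ S, ((g⁻¹ * gτ : GL ι F) : Matrix ι ι F) * s =
      s * ((g⁻¹ * gτ : GL ι F) : Matrix ι ι F) := by
    intro s hs
    have h1 := hmapfix _ (hK _ (hg s hs))
    rw [Matrix.map_mul, Matrix.map_mul, hmapfix s (hK s hs), ← hgτval, ← hgτinv] at h1
    -- gτ s gτ⁻¹ = g s g⁻¹
    have h2 : (gτ : Matrix ι ι F) * s =
        (g : Matrix ι ι F) * s * ((g⁻¹ : GL ι F) : Matrix ι ι F) *
          (gτ : Matrix ι ι F) := by
      rw [← h1, Matrix.mul_assoc _ _ (gτ : Matrix ι ι F), ← Units.val_mul,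
        inv_mul_cancel, Units.val_one, Matrix.mul_one]
    rw [Units.val_mul, Matrix.mul_assoc, h2]
    simp only [← Matrix.mul_assoc]
    rw [← Units.val_mul, inv_mul_cancel, Units.val_one, Matrix.one_mul]
  obtain ⟨c, hc⟩ := hcent _ hcomm
  have hgc : ∀ i j, τ ((g : Matrix ι ι F) i j) = c * (g : Matrix ι ι F) i j := by
    intro i j
    have h1 : (gτ : Matrix ι ι F) = (g : Matrix ι ι F) *
        ((g⁻¹ * gτ : GL ι F) : Matrix ι ι F) := by
      rw [← Units.val_mul, mul_inv_cancel_left]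
    rw [hc, Matrix.mul_smul, Matrix.mul_one] at h1
    have := congrFun (congrFun h1 i) j
    rw [hgτval, Matrix.map_apply, Matrix.smul_apply, smul_eq_mul] at this
    exact this
  -- a non-zero entry
  obtain ⟨i₀, j₀, ha⟩ : ∃ i j, (g : Matrix ι ι F) i j ≠ 0 := by
    by_contra hcon
    push Not at hcon
    have : (g : Matrix ι ι F) = 0 := by
      ext i j
      exact hcon i j
    have h1 : (1 : Matrix ι ι F) = 0 := by
      rw [← Units.mul_inv g, this, Matrix.zero_mul]
    exact one_ne_zero h1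
  set a := (g : Matrix ι ι F) i₀ j₀ with hadef
  have hτa : τ a = c * a := hgc i₀ j₀
  have hc0 : c ≠ 0 := by
    intro h0
    rw [h0, zero_mul] at hτa
    exact ha ((map_eq_zero τ).mp hτa)
  -- the scalar a
  let z : GL ι F :=
    ⟨a • 1, a⁻¹ • 1, by rw [smul_mul_smul_comm, mul_inv_cancel₀ ha, Matrix.one_mul, one_smul],
      by rw [smul_mul_smul_comm, inv_mul_cancel₀ ha, Matrix.one_mul, one_smul]⟩
  have hz : z ∈ scalars ι F := by
    rw [mem_scalars_iff]
    exact ⟨Units.mk0 a ha, rfl⟩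
  have hu : g * z⁻¹ ∈ (Matrix.GeneralLinearGroup.map (K.subtype : K →+* F)).range := by
    have hval : ((g * z⁻¹ : GL ι F) : Matrix ι ι F) =
        a⁻¹ • (g : Matrix ι ι F) := by
      rw [Units.val_mul]
      show (g : Matrix ι ι F) * (a⁻¹ • (1 : Matrix ι ι F)) = _
      rw [Matrix.mul_smul, Matrix.mul_one]
    have hent : ∀ i j, ((g * z⁻¹ : GL ι F) : Matrix ι ι F) i j ∈ K := by
      intro i j
      rw [hval, Matrix.smul_apply, smul_eq_mul, hfix, map_mul, map_inv₀, hτa, hgc]
      field_simp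
    let u₀ : Matrix ι ι K := fun i j => ⟨_, hent i j⟩
    have hu₀ : u₀.map (K.subtype : K →+* F) =
        ((g * z⁻¹ : GL ι F) : Matrix ι ι F) := by
      ext i j
      rfl
    have hdet : u₀.det ≠ 0 := by
      intro h0
      have h1 : (K.subtype : K →+* F) u₀.det = 0 := by rw [h0, map_zero]
      rw [RingHom.map_det] at h1
      have h2 : ((K.subtype : K →+* F).mapMatrix u₀) = u₀.map (K.subtype : K →+* F) := rfl
      rw [h2, hu₀] at h1
      exact ((g * z⁻¹).isUnit.map Matrix.detMonoidHom).ne_zero h1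
    refine ⟨Matrix.GeneralLinearGroup.mkOfDetNeZero u₀ hdet, ?_⟩
    apply Units.ext
    exact hu₀
  have : g = (g * z⁻¹) * z := by group
  rw [this]
  exact Subgroup.mul_mem_sup hu hz


/-- the normaliser of a spanning group written over a subfield lies in the subfield group -/
theorem subfield_le_gen [Fintype F] [Nonempty ι] (H N : Subgroup (GL ι F))
    (hHN : ∀ h ∈ H, ∀ x ∈ N, h * x * h⁻¹ ∈ N)
    (hspan : Submodule.span F (mset N) = ⊤)
    (K : Subfield F) (B : GL ι F)
    (hB : ∀ x ∈ N, ∀ i j, ((B * x * B⁻¹ : GL ι F) : Matrix ι ι F) i j ∈ K) :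
    H ≤ subfieldSubgroup K B⁻¹ := by
  intro h hh
  set S : Set (Matrix ι ι F) :=
    {y | ∃ x ∈ N, y = ((B * x * B⁻¹ : GL ι F) : Matrix ι ι F)} with hS
  have key : B * h * B⁻¹ ∈
      (Matrix.GeneralLinearGroup.map (K.subtype : K →+* F)).range ⊔ scalars ι F := by
    refine sf0_gen K S ?_ ?_ _ ?_
    · intro w hw
      have h1 : ∀ X ∈ mset N, (((B⁻¹ : GL ι F) : Matrix ι ι F) * w *
          (B : Matrix ι ι F)) * X = X * (((B⁻¹ : GL ι F) :
            Matrix ι ι F) * w * (B : Matrix ι ι F)) := by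
        rintro X ⟨x, hx, rfl⟩
        have h2 := hw _ ⟨x, hx, rfl⟩
        simp only [Units.val_mul] at h2
        calc ((B⁻¹ : GL ι F) : Matrix ι ι F) * w *
              (B : Matrix ι ι F) * (x : Matrix ι ι F)
            = ((B⁻¹ : GL ι F) : Matrix ι ι F) * (w *
              ((B : Matrix ι ι F) * (x : Matrix ι ι F) *
                ((B⁻¹ : GL ι F) : Matrix ι ι F))) *
                (B : Matrix ι ι F) := by
              simp only [Matrix.mul_assoc]
              rw [← Units.val_mul B⁻¹ B, inv_mul_cancel, Units.val_one, Matrix.mul_one]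
          _ = _ := by
              rw [h2]
              simp only [← Matrix.mul_assoc]
              rw [← Units.val_mul B⁻¹ B, inv_mul_cancel, Units.val_one, Matrix.one_mul]
      obtain ⟨c, hc⟩ := scalar_of_commute_span hspan h1
      refine ⟨c, ?_⟩
      have h3 : w = (B : Matrix ι ι F) *
          (((B⁻¹ : GL ι F) : Matrix ι ι F) * w *
            (B : Matrix ι ι F)) *
          ((B⁻¹ : GL ι F) : Matrix ι ι F) := by
        simp only [← Matrix.mul_assoc]
        rw [← Units.val_mul, mul_inv_cancel, Units.val_one, Matrix.one_mul, Matrix.mul_assoc,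
          ← Units.val_mul, mul_inv_cancel, Units.val_one, Matrix.mul_one]
      rw [h3, hc, Matrix.mul_smul, Matrix.smul_mul, Matrix.mul_one, ← Units.val_mul,
        mul_inv_cancel, Units.val_one]
    · rintro s ⟨x, hx, rfl⟩ i j
      exact hB x hx i j
    · rintro s ⟨x, hx, rfl⟩
      refine ⟨h * x * h⁻¹, hHN h hh x hx, ?_⟩
      rw [← Units.val_mul, ← Units.val_mul]
      congr 1
      group
  unfold subfieldSubgroup
  rw [Subgroup.mem_map]
  refine ⟨B * h * B⁻¹, key, ?_⟩
  simp only [MulEquiv.toMonoidHom_eq_coe, MonoidHom.coe_coe, MulAut.conj_apply]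
  group

end Cfsg.Agent.Lib.Helper5.AschO
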